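import Groth.Agent.FlatSerre.Basic
import Groth.Agent.CohenStruct.N2
import Groth.Agent.DepthLib.Basic
import Mathlib

/-!
# Depth and dimension under completion
-/

universe u

open TensorProduct

namespace Groth.Agent.FlatSerre

open IsLocalRing LocCoh DepthLib FlatAscent

variable (A : Type u) [CommRing A] [IsLocalRing A] [IsNoetherianRing A]

local notation "Ac" => AdicCompletion (maximalIdeal A) A

theorem supportDim_le_zero_completion_fib :
    ringKrullDim (Fib A Ac) = 0 ∧ depth (Fib A Ac) (Fib A Ac) = 0 := by
  haveI := CohenStruct.isNoetherianRing_completion A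
  haveI := isLocalRing_fibre A Ac
  have hm : (maximalIdeal A).map (algebraMap A Ac) = maximalIdeal Ac := AdicCompletion.maximalIdeal_eq_map.symm
  have hf : IsField (Fib A Ac) := Ideal.Quotient.maximal_ideal_iff_isField_quotient _ |>.mp (hm ▸ maximalIdeal.isMaximal _)
  refine ⟨ringKrullDim_eq_zero_of_isField hf, ?_⟩
  have := depth_le_supportDim (R := Fib A Ac) (Fib A Ac)
  rw [Module.supportDim_self_eq_ringKrullDim, ringKrullDim_eq_zero_of_isField hf] at this
  exact nonpos_iff_eq_zero.mp (WithBot.coe_le_coe.mp this)

theorem ringKrullDim_completion : ringKrullDim Ac = ringKrullDim A := by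
  haveI := CohenStruct.isNoetherianRing_completion A
  haveI : Module.Flat A Ac := AdicCompletion.flat_of_isNoetherian _
  rw [ringKrullDim_eq_add A Ac, (supportDim_le_zero_completion_fib A).1, add_zero]

theorem depth_completion_self : depth Ac Ac = depth A A := by
  haveI := CohenStruct.isNoetherianRing_completion A
  haveI : Module.Flat A Ac := AdicCompletion.flat_of_isNoetherian _
  haveI := isLocalRing_fibre A Ac
  rw [depth_self_eq_add A Ac, (supportDim_le_zero_completion_fib A).2, add_zero]

theorem depth_completion (M : Type u) [AddCommGroup M] [Module A M] [Module.Finite A M] :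
    depth Ac (AdicCompletion (maximalIdeal A) M) = depth A M := by
  haveI := CohenStruct.isNoetherianRing_completion A
  haveI : Module.Flat A Ac := AdicCompletion.flat_of_isNoetherian _
  haveI := isLocalRing_fibre A Ac
  let e : Ac ⊗[A] (A ⧸ maximalIdeal A) ≃ₗ[Ac] Fib A Ac :=
    FlatDepthFormula.tensorQuot Ac (maximalIdeal A) ≪≫ₗ
      Submodule.quotEquivOfEq _ ((maximalIdeal A).map (algebraMap A Ac)) (by rw [smul_eq_mul, Ideal.mul_top])
  rw [← depth_congr (AdicCompletion.ofTensorProductEquivOfFiniteNoetherian (maximalIdeal A) M),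
    FlatDepthFormula.depth_tensor (M := Ac) M, depth_congr e, depth_fib A Ac,
    (supportDim_le_zero_completion_fib A).2, add_zero]

end Groth.Agent.FlatSerre
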