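import Groth.Agent.FlatAscent.Fibres
import Groth.Agent.FlatDepthFormula.Basic
import Groth.Agent.DepthLib.Reduced
import Groth.Agent.DepthLib.Kernel
import Mathlib

/-!
# Serre's conditions along flat local homomorphisms
-/

universe u

open TensorProduct

namespace Groth.Agent.FlatSerre

open IsLocalRing LocCoh DepthLib FlatAscent

/-- The inequality defining `(S_k)` at the closed point of a local ring. -/
def SkLoc (k : ℕ) (T : Type u) [CommRing T] [IsLocalRing T] : Prop :=
  min (k : WithBot ℕ∞) (ringKrullDim T) ≤ ((depth T T : ℕ∞) : WithBot ℕ∞)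

theorem SkLoc.congr {k : ℕ} {T T' : Type u} [CommRing T] [IsLocalRing T] [CommRing T'] [IsLocalRing T']
    (e : T ≃+* T') (h : SkLoc k T) : SkLoc k T' := by
  unfold SkLoc at *
  rwa [← ringKrullDim_eq_of_ringEquiv e, depth_eq_of_ringEquiv e]

theorem hasSk_iff_forall_skLoc {k : ℕ} {R : Type u} [CommRing R] :
    HasSk k R R ↔ ∀ (p : Ideal R) [p.IsPrime], SkLoc k (Localization.AtPrime p) := by
  refine forall_congr' fun p => forall_congr' fun hp => ?_
  unfold SkLoc
  rw [depth_localization_self, supportDim_localization_self,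
    IsLocalization.AtPrime.ringKrullDim_eq_height p]

theorem skLoc_of_hasSk {k : ℕ} {T : Type u} [CommRing T] [IsLocalRing T] (h : HasSk k T T) : SkLoc k T :=
  (hasSk_iff_forall_skLoc.mp h (maximalIdeal T)).congr
    (IsLocalization.atUnits T (S := Localization.AtPrime (maximalIdeal T)) (maximalIdeal T).primeCompl
      (fun _ hx => IsLocalRing.notMem_maximalIdeal.mp hx)).symm.toRingEquiv

theorem min_add_le (k : ℕ) {a b : WithBot ℕ∞} {r f : ℕ∞} (ha : a ≠ ⊥) (hb : b ≠ ⊥)
    (h₁ : min (k : WithBot ℕ∞) a ≤ r) (h₂ : min (k : WithBot ℕ∞) b ≤ f) :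
    min (k : WithBot ℕ∞) (a + b) ≤ ((r + f : ℕ∞) : WithBot ℕ∞) := by
  obtain ⟨x, rfl⟩ := WithBot.ne_bot_iff_exists.mp ha
  obtain ⟨y, rfl⟩ := WithBot.ne_bot_iff_exists.mp hb
  rw [WithBot.coe_add, ← WithBot.coe_add, min_le_iff]
  rcases le_total (k : WithBot ℕ∞) (x : WithBot ℕ∞) with hkx | hkx
  · exact Or.inl (((min_eq_left hkx) ▸ h₁).trans (WithBot.coe_le_coe.mpr le_self_add))
  rcases le_total (k : WithBot ℕ∞) (y : WithBot ℕ∞) with hky | hky
  · exact Or.inl (((min_eq_left hky) ▸ h₂).trans (WithBot.coe_le_coe.mpr le_add_self))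
  rw [min_eq_right hkx] at h₁
  rw [min_eq_right hky] at h₂
  rw [WithBot.coe_add]
  exact Or.inr (add_le_add h₁ h₂)

variable (R S : Type u) [CommRing R] [CommRing S] [IsLocalRing R] [IsLocalRing S]
  [IsNoetherianRing R] [IsNoetherianRing S] [Algebra R S] [IsLocalHom (algebraMap R S)]
  [Module.Flat R S]

omit [IsNoetherianRing R] [IsNoetherianRing S] [Module.Flat R S] in
theorem depth_fib [IsLocalRing (Fib R S)] : depth S (Fib R S) = depth (Fib R S) (Fib R S) := by
  have hs : Function.Surjective (algebraMap S (Fib R S)) := Ideal.Quotient.mk_surjective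
  unfold depth
  rw [← IsLocalRing.map_maximalIdeal_of_surjective (algebraMap S (Fib R S)) hs]
  exact (idealDepth_map_of_surjective hs).symm

theorem depth_self_eq_add [IsLocalRing (Fib R S)] :
    depth S S = depth R R + depth (Fib R S) (Fib R S) := by
  rw [← depth_congr (AlgebraTensorModule.rid R S S), FlatDepthFormula.depth_tensor (M := S) R,
    depth_congr (FlatDepthFormula.tensorQuot S (maximalIdeal R) ≪≫ₗ
      Submodule.quotEquivOfEq _ ((maximalIdeal R).map (algebraMap R S)) (by
        rw [smul_eq_mul, Ideal.mul_top])), ← depth_fib]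

/-- `(S_k)` at the closed point ascends from the base and the closed fibre. -/
theorem skLoc_of_flat {k : ℕ} [IsLocalRing (Fib R S)] (hR : SkLoc k R) (hF : SkLoc k (Fib R S)) :
    SkLoc k S := by
  unfold SkLoc at *
  rw [ringKrullDim_eq_add R S, depth_self_eq_add R S]
  exact min_add_le k ringKrullDim_ne_bot ringKrullDim_ne_bot hR hF

omit R S

variable {A B : Type u} [CommRing A] [CommRing B] [IsNoetherianRing A] [IsNoetherianRing B]
  [Algebra A B] [Module.Flat A B]

theorem skLoc_fibre {A B : Type u} [CommRing A] [CommRing B] [Algebra A B] {k : ℕ} (q : Ideal B) [q.IsPrime]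
    (hfib : HasSk k ((q.comap (algebraMap A B)).Fiber B) ((q.comap (algebraMap A B)).Fiber B))
    (T : Type u) [CommRing T] [IsLocalRing T] (e : EGA4.FibLocRing A B q ≃+* T) : SkLoc k T := by
  obtain ⟨Q, _, ⟨e'⟩⟩ := exists_fibre_prime (A := A) q
  exact (hasSk_iff_forall_skLoc.mp hfib Q).congr (e'.trans e)

/-- `(S_k)` ascends from the base and the fibres. -/
theorem hasSk_of_fibres {k : ℕ} (hA : HasSk k A A)
    (hfib : ∀ (p : Ideal A) [p.IsPrime], HasSk k (p.Fiber B) (p.Fiber B)) : HasSk k B B := by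
  refine hasSk_iff_forall_skLoc.mpr fun q _ => ?_
  obtain ⟨_, _, _, ⟨e⟩⟩ := exists_local_setting (A := A) q
  haveI := isLocalRing_fibre (Localization.AtPrime (q.comap (algebraMap A B))) (Localization.AtPrime q)
  exact skLoc_of_flat _ _ (hasSk_iff_forall_skLoc.mp hA _) (skLoc_fibre q (hfib _) _ e)

end Groth.Agent.FlatSerre
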