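import Groth.Agent.FlatSerre.Invariants
import Groth.Agent.DepthLib.RegularLocal
import Mathlib

/-!
# Descent of depth conditions along flat maps; completion
-/

universe u

open TensorProduct

namespace Groth.Agent.FlatSerre

open IsLocalRing LocCoh DepthLib FlatAscent

section

variable {A B : Type u} [CommRing A] [CommRing B] [IsNoetherianRing A] [IsNoetherianRing B]
  [Algebra A B]

/-- Below a prime over `p` there is one with the dimension and depth of `A_p`. -/
theorem exists_prime_invariants [Module.Flat A B] (p : Ideal A) [p.IsPrime] (r₀ : Ideal B) [r₀.IsPrime]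
    (h : r₀.comap (algebraMap A B) = p) :
    ∃ (r : Ideal B) (_ : r.IsPrime), r ≤ r₀ ∧ r.comap (algebraMap A B) = p ∧
      ringKrullDim (Localization.AtPrime r) = ringKrullDim (Localization.AtPrime p) ∧
      depth (Localization.AtPrime r) (Localization.AtPrime r) = depth (Localization.AtPrime p) (Localization.AtPrime p) := by
  obtain ⟨r, _, hle, hr, h1, h2⟩ := exists_fibLoc_dim_zero (B := A) (C := B) p r₀ h
  refine ⟨r, inferInstance, hle, hr, ?_⟩
  obtain ⟨e1, e2⟩ := invariants_atPrime (A := A) r
  rw [h1, add_zero] at e1
  rw [h2, add_zero] at e2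
  subst hr
  exact ⟨e1, e2⟩

/-- `(S_k)` descends along faithfully flat maps. -/
theorem hasSk_descend [Module.FaithfullyFlat A B] {k : ℕ} (hB : HasSk k B B) : HasSk k A A := by
  refine hasSk_iff_forall_skLoc.mpr fun p _ => ?_
  obtain ⟨r₀, hr₀⟩ := PrimeSpectrum.comap_surjective_of_faithfullyFlat (B := B) (⟨p, inferInstance⟩ : PrimeSpectrum A)
  obtain ⟨r, _, _, _, e1, e2⟩ := exists_prime_invariants p r₀.asIdeal (congrArg PrimeSpectrum.asIdeal hr₀)
  have := hasSk_iff_forall_skLoc.mp hB r
  unfold SkLoc at *
  rwa [e1, e2] at this

end

/-- Flatness descends along a faithfully flat algebra. -/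
theorem flat_of_flat_of_faithfullyFlat (A B C : Type u) [CommRing A] [CommRing B] [CommRing C] [Algebra A B]
    [Algebra B C] [Algebra A C] [IsScalarTower A B C] [Module.Flat A C] [Module.FaithfullyFlat B C] :
    Module.Flat A B := by
  rw [Module.Flat.iff_lTensor_injective']
  intro I
  have hBC : Function.Injective (IsScalarTower.toAlgHom A B C).toLinearMap := FaithfulSMul.algebraMap_injective B C
  intro x y hxy
  have key : ∀ z, I.subtype.lTensor C ((IsScalarTower.toAlgHom A B C).toLinearMap.rTensor I z) =
      (IsScalarTower.toAlgHom A B C).toLinearMap.rTensor A (I.subtype.lTensor B z) := fun z => by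
    rw [← LinearMap.comp_apply, ← LinearMap.comp_apply, LinearMap.lTensor_comp_rTensor, LinearMap.rTensor_comp_lTensor]
  have h1 := Module.Flat.lTensor_preserves_injective_linearMap (M := C) I.subtype Subtype.val_injective
    (show I.subtype.lTensor C ((IsScalarTower.toAlgHom A B C).toLinearMap.rTensor I x) =
      I.subtype.lTensor C ((IsScalarTower.toAlgHom A B C).toLinearMap.rTensor I y) by rw [key, key, hxy])
  have hinj : Function.Injective ((IsScalarTower.toAlgHom A B C).toLinearMap.rTensor I) := by
    let e := AlgebraTensorModule.cancelBaseChange A B C C I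
    have : ∀ z, e ((1 : C) ⊗ₜ[B] z) = (IsScalarTower.toAlgHom A B C).toLinearMap.rTensor I z := fun z => by
      induction z using TensorProduct.induction_on with
      | zero => simp
      | add a b ha hb => simp only [tmul_add, map_add, ha, hb]
      | tmul b i =>
        rw [AlgebraTensorModule.cancelBaseChange_tmul, LinearMap.rTensor_tmul]
        exact congrArg (· ⊗ₜ[A] i) (Algebra.algebraMap_eq_smul_one (A := C) b).symm
    intro a b hab
    rw [← this, ← this] at hab
    exact Module.FaithfullyFlat.tensorProduct_mk_injective (B := C) _ (e.injective hab)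
  exact hinj h1

end Groth.Agent.FlatSerre
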