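import Groth.Agent.FlatSerre.Localize
import Groth.Agent.DepthLib.CMModule
import Mathlib

/-!
# Cohen-Macaulay and `(S_k)` for `N ⊗ M`
-/

universe u

open TensorProduct

namespace Groth.Agent.FlatDepthFormula

variable {A B : Type u} [CommRing A] [CommRing B] [Algebra A B]
variable {M : Type u} [AddCommGroup M] [Module B M] [Module A M] [IsScalarTower A B M]

/-- `M ⊗ X` is finite over `B`. -/
theorem finite_tensor' [Module.Finite B M] (X : Type u) [AddCommGroup X] [Module A X] [Module.Finite A X] :
    Module.Finite B (M ⊗[A] X) := by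
  obtain ⟨n, p, hp⟩ := Module.Finite.exists_fin' A X
  haveI : Module.Finite B (M ⊗[A] (Fin n → A)) :=
    Module.Finite.equiv (TensorProduct.piScalarRight A B M (Fin n)).symm
  exact Module.Finite.of_surjective (AlgebraTensorModule.map (LinearMap.id : M →ₗ[B] M) p)
    (LinearMap.lTensor_surjective M hp)

end Groth.Agent.FlatDepthFormula

namespace Groth.Agent.FlatSerre

open IsLocalRing LocCoh DepthLib

theorem add_eq_iff (a b : ℕ) (r f : ℕ∞) (h1 : ((r : ℕ∞) : WithBot ℕ∞) ≤ (a : WithBot ℕ∞))
    (h2 : ((f : ℕ∞) : WithBot ℕ∞) ≤ (b : WithBot ℕ∞)) :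
    (a : WithBot ℕ∞) + (b : WithBot ℕ∞) = ((r + f : ℕ∞) : WithBot ℕ∞) ↔
      (a : WithBot ℕ∞) = ((r : ℕ∞) : WithBot ℕ∞) ∧ (b : WithBot ℕ∞) = ((f : ℕ∞) : WithBot ℕ∞) := by
  have hr : r ≤ (a : ℕ∞) := WithBot.coe_le_coe.mp h1
  have hf : f ≤ (b : ℕ∞) := WithBot.coe_le_coe.mp h2
  lift r to ℕ using ne_top_of_le_ne_top (ENat.coe_ne_top a) hr
  lift f to ℕ using ne_top_of_le_ne_top (ENat.coe_ne_top b) hf
  norm_cast at hr hf ⊢
  omega

theorem supportDim_le_zero_of_isFiniteLength {R : Type u} [CommRing R] [IsLocalRing R] [IsNoetherianRing R] {M : Type u}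
    [AddCommGroup M] [Module R M] [Module.Finite R M] (h : IsFiniteLength R M) : Module.supportDim R M ≤ 0 := by
  haveI := (isFiniteLength_iff_isNoetherian_isArtinian.1 h).2
  obtain ⟨k, hk⟩ := IsArtinian.monotone_stabilizes
    (⟨fun n => OrderDual.toDual (maximalIdeal R ^ n • (⊤ : Submodule R M)),
      fun a b hab => Submodule.smul_mono_left (Ideal.pow_le_pow_right hab)⟩ :
      ℕ →o (Submodule R M)ᵒᵈ)
  have h0 : maximalIdeal R ^ k • (⊤ : Submodule R M) = ⊥ := by
    refine Submodule.eq_bot_of_le_smul_of_le_jacobson_bot (maximalIdeal R) _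
      (IsNoetherian.noetherian _) ?_ (IsLocalRing.maximalIdeal_le_jacobson _)
    rw [← mul_smul, ← pow_succ']
    exact (OrderDual.toDual.injective (hk (k + 1) (by omega))).le
  have hJ : maximalIdeal R ^ k ≤ Module.annihilator R M := fun a ha =>
    Module.mem_annihilator.2 fun y =>
      (Submodule.mem_bot R).1 (h0 ▸ Submodule.smul_mem_smul ha Submodule.mem_top)
  rw [Module.supportDim, Module.support_eq_zeroLocus]
  suffices Subsingleton (PrimeSpectrum.zeroLocus (Module.annihilator R M : Set R)) from
    Order.krullDim_nonpos_of_subsingleton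
  refine ⟨fun x y => ?_⟩
  have key : ∀ z ∈ PrimeSpectrum.zeroLocus (Module.annihilator R M : Set R), z.asIdeal = maximalIdeal R := fun z hz =>
    le_antisymm (IsLocalRing.le_maximalIdeal z.2.ne_top) (z.2.le_of_pow_le (hJ.trans
      (SetLike.coe_subset_coe.mp ((PrimeSpectrum.mem_zeroLocus _ _).mp hz))))
  exact Subtype.ext (PrimeSpectrum.ext ((key _ x.2).trans (key _ y.2).symm))

variable {A B : Type u} [CommRing A] [CommRing B] [Algebra A B]

theorem exists_min_over [IsNoetherianRing B] {N : Type u} [AddCommGroup N] [Module B N] [Module.Finite B N]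
    (p : Ideal A) [p.IsPrime] (P : PrimeSpectrum B) (hP : P ∈ Module.support B N)
    (hPp : P.asIdeal.comap (algebraMap A B) = p) :
    ∃ (Q : PrimeSpectrum B), Q.asIdeal ≤ P.asIdeal ∧ Q.asIdeal.comap (algebraMap A B) = p ∧
      Nontrivial (LocalizedModule Q.asIdeal.primeCompl N) ∧
      (depth (Localization.AtPrime Q.asIdeal) (LocalizedModule Q.asIdeal.primeCompl N ⧸
          (p.map (algebraMap A (Localization.AtPrime Q.asIdeal)) • (⊤ : Submodule (Localization.AtPrime Q.asIdeal)
            (LocalizedModule Q.asIdeal.primeCompl N)))) = 0 ∧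
        Module.supportDim (Localization.AtPrime Q.asIdeal) (LocalizedModule Q.asIdeal.primeCompl N ⧸
          (p.map (algebraMap A (Localization.AtPrime Q.asIdeal)) • (⊤ : Submodule (Localization.AtPrime Q.asIdeal)
            (LocalizedModule Q.asIdeal.primeCompl N)))) = 0) := by
  let J : Ideal B := Module.annihilator B N ⊔ p.map (algebraMap A B)
  obtain ⟨q, hq, hle⟩ := Ideal.exists_minimalPrimes_le (I := J) (J := P.asIdeal)
    (sup_le (Module.mem_support_iff_of_finite.mp hP) (Ideal.map_le_iff_le_comap.mpr hPp.ge))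
  haveI := hq.1.1
  let BQ := Localization.AtPrime q
  let NQ := LocalizedModule q.primeCompl N
  have hqN : (⟨q, inferInstance⟩ : PrimeSpectrum B) ∈ Module.support B N :=
    Module.mem_support_iff_of_finite.mpr (le_sup_left.trans hq.1.2)
  haveI hnt : Nontrivial NQ := Module.mem_support_iff.mp hqN
  have hqp : q.comap (algebraMap A B) = p :=
    le_antisymm ((Ideal.comap_mono hle).trans hPp.le) (Ideal.map_le_iff_le_comap.mp (le_sup_right.trans hq.1.2))
  haveI : Module.Finite BQ NQ := Module.Finite.of_isLocalizedModule q.primeCompl (LocalizedModule.mkLinearMap q.primeCompl N)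
  let K : Ideal BQ := p.map (algebraMap A BQ)
  let Z := NQ ⧸ (K • (⊤ : Submodule BQ NQ))
  have hK : K ≤ maximalIdeal BQ := by
    rw [← Localization.AtPrime.map_eq_maximalIdeal]
    refine le_trans ?_ (Ideal.map_mono (Ideal.map_le_iff_le_comap.mpr hqp.ge))
    rw [Ideal.map_map, ← IsScalarTower.algebraMap_eq]
  haveI : Nontrivial Z := Submodule.Quotient.nontrivial_iff.mpr fun h =>
    maximalIdeal_smul_top_ne_top (R := BQ) (M := NQ) (top_le_iff.mp (h.ge.trans (Submodule.smul_mono_left hK)))
  have hzero : Module.supportDim BQ Z = 0 := by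
    refine le_antisymm ?_ (zero_le_supportDim Z)
    rw [Module.supportDim]
    suffices Subsingleton (Module.support BQ Z) from Order.krullDim_nonpos_of_subsingleton
    refine ⟨fun x y => ?_⟩
    have key : ∀ z ∈ Module.support BQ Z, z.asIdeal = maximalIdeal BQ := by
      intro z hz
      rw [Module.support_quotient] at hz
      have hc : J ≤ z.asIdeal.comap (algebraMap B BQ) := by
        refine sup_le (fun b hb => ?_) ?_
        · refine Module.mem_support_iff_of_finite.mp hz.1 (Module.mem_annihilator.mpr fun m => ?_)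
          induction m using LocalizedModule.induction_on with
          | h m s => rw [algebraMap_smul, LocalizedModule.smul'_mk, Module.mem_annihilator.mp hb m, LocalizedModule.zero_mk]
        · rw [Ideal.map_le_iff_le_comap, Ideal.comap_comap, ← IsScalarTower.algebraMap_eq, ← Ideal.map_le_iff_le_comap]
          exact SetLike.coe_subset_coe.mp ((PrimeSpectrum.mem_zeroLocus _ _).mp hz.2)
      have hle' : z.asIdeal.comap (algebraMap B BQ) ≤ q :=
        (Ideal.comap_mono (IsLocalRing.le_maximalIdeal z.2.ne_top)).trans Localization.AtPrime.under_maximalIdeal.le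
      have he := le_antisymm hle' (hq.2 ⟨inferInstance, hc⟩ hle')
      rw [← IsLocalization.map_comap q.primeCompl BQ z.asIdeal, ← Localization.AtPrime.map_eq_maximalIdeal]
      exact congrArg _ he
    exact Subtype.ext (PrimeSpectrum.ext ((key _ x.2).trans (key _ y.2).symm))
  refine ⟨⟨q, inferInstance⟩, hle, hqp, hnt, ?_, hzero⟩
  haveI : IsNoetherianRing BQ := inferInstance
  have := depth_le_supportDim (R := BQ) Z
  rw [hzero] at this
  exact nonpos_iff_eq_zero.mp (WithBot.coe_le_coe.mp this)

theorem min_le_of_hasSk_local {R : Type u} [CommRing R] [IsLocalRing R] {k : ℕ} (M : Type u) [AddCommGroup M]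
    [Module R M] [Module.Finite R M] (h : HasSk k R M) :
    min (k : WithBot ℕ∞) (Module.supportDim R M) ≤ ((depth R M : ℕ∞) : WithBot ℕ∞) := by
  let T := Localization.AtPrime (maximalIdeal R)
  let N := LocalizedModule (maximalIdeal R).primeCompl M
  have hb : Function.Bijective (algebraMap R T) :=
    (IsLocalization.atUnits R (S := T) (maximalIdeal R).primeCompl (fun _ hx => IsLocalRing.notMem_maximalIdeal.mp hx)).bijective
  let E : M ≃ₗ[R] N := LinearEquiv.ofBijective (LocalizedModule.mkLinearMap (maximalIdeal R).primeCompl M)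
    ⟨fun x y hxy => by
      obtain ⟨c, hc⟩ := (IsLocalizedModule.eq_iff_exists (maximalIdeal R).primeCompl _).mp hxy
      exact (IsLocalRing.notMem_maximalIdeal.mp c.2).smul_left_cancel.mp hc,
    fun z => by
      obtain ⟨⟨m, s⟩, hs⟩ := IsLocalizedModule.mk'_surjective (maximalIdeal R).primeCompl
        (LocalizedModule.mkLinearMap (maximalIdeal R).primeCompl M) z
      obtain ⟨u, hu⟩ := IsLocalRing.notMem_maximalIdeal.mp s.2
      refine ⟨(u⁻¹ : Rˣ).1 • m, ?_⟩
      rw [map_smul, ← hs, Function.uncurry_apply_pair]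
      apply (IsLocalRing.notMem_maximalIdeal.mp s.2).smul_left_cancel.mp
      rw [← hu, smul_smul, Units.mul_inv, one_smul, hu]
      exact (IsLocalizedModule.mk'_cancel' _ m s).symm⟩
  have h' := h (maximalIdeal R)
  haveI : Module.Finite T N := Module.Finite.of_isLocalizedModule (maximalIdeal R).primeCompl
    (LocalizedModule.mkLinearMap (maximalIdeal R).primeCompl M)
  rw [supportDim_eq_of_surjective N hb.surjective, depth_eq_of_surjective hb.surjective] at h'
  rwa [Module.supportDim_eq_of_equiv E, depth_congr E]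

theorem skAt_tensor [IsNoetherianRing A] [IsNoetherianRing B] {k : ℕ}
    (F : Type u) [AddCommGroup F] [Module B F] [Module A F] [IsScalarTower A B F] [Module.Finite B F]
    [Module.Flat A F] (E : Type u) [AddCommGroup E] [Module A E] [Module.Finite A E]
    (Q : Ideal B) [Q.IsPrime] (hn : Nontrivial (LocalizedModule Q.primeCompl (F ⊗[A] E)))
    (hfib : HasSk k (EGA4.FibLocRing A B Q) (EGA4.FibLocMod A B Q F))
    (hE : min (k : WithBot ℕ∞) (Module.supportDim (Localization.AtPrime (Q.comap (algebraMap A B)))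
          (LocalizedModule (Q.comap (algebraMap A B)).primeCompl E)) ≤
      ((depth (Localization.AtPrime (Q.comap (algebraMap A B)))
          (LocalizedModule (Q.comap (algebraMap A B)).primeCompl E) : ℕ∞) : WithBot ℕ∞)) :
    min (k : WithBot ℕ∞) (Module.supportDim (Localization.AtPrime Q) (LocalizedModule Q.primeCompl (F ⊗[A] E))) ≤
      ((depth (Localization.AtPrime Q) (LocalizedModule Q.primeCompl (F ⊗[A] E)) : ℕ∞) : WithBot ℕ∞) := by
  haveI := FlatDepthFormula.finite_tensor' (A := A) (B := B) (M := F) E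
  let p := Q.comap (algebraMap A B)
  have hmem : (⟨Q, inferInstance⟩ : PrimeSpectrum B) ∈ Module.support B (F ⊗[A] E) := Module.mem_support_iff.mpr hn
  rw [support_tensor_eq F E, PrimeSpectrum.mem_zeroLocus, SetLike.coe_subset_coe, sup_le_iff,
    Ideal.map_le_iff_le_comap] at hmem
  have hF : Nontrivial (LocalizedModule Q.primeCompl F) :=
    Module.mem_support_iff.mp (Module.mem_support_iff_of_finite.mpr hmem.1 : (⟨Q, inferInstance⟩ : PrimeSpectrum B) ∈ _)
  have hEn : Nontrivial (LocalizedModule p.primeCompl E) :=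
    Module.mem_support_iff.mp (Module.mem_support_iff_of_finite.mpr hmem.2 : (⟨p, inferInstance⟩ : PrimeSpectrum A) ∈ _)
  obtain ⟨e1, e2⟩ := invariants_tensor_localized F E Q p rfl hF
  rw [e1, e2 hEn]
  let R' := EGA4.FibLocRing A B Q
  let Z := EGA4.FibLocMod A B Q F
  let K : Ideal (Localization.AtPrime Q) := p.map (algebraMap A (Localization.AtPrime Q))
  have hK : K ≤ maximalIdeal (Localization.AtPrime Q) := by
    rw [← Localization.AtPrime.map_eq_maximalIdeal]
    refine le_trans ?_ (Ideal.map_mono (Ideal.map_comap_le (f := algebraMap A B) (K := Q)))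
    rw [Ideal.map_map, ← IsScalarTower.algebraMap_eq]
  haveI : Nontrivial R' := Ideal.Quotient.nontrivial_iff.mpr
    (ne_top_of_le_ne_top (maximalIdeal.isMaximal _).ne_top hK)
  haveI : IsLocalRing R' := IsLocalRing.of_surjective' (Ideal.Quotient.mk K) Ideal.Quotient.mk_surjective
  haveI : Module.Finite (Localization.AtPrime Q) (LocalizedModule Q.primeCompl F) :=
    Module.Finite.of_isLocalizedModule Q.primeCompl (LocalizedModule.mkLinearMap Q.primeCompl F)
  haveI : Module.Finite R' Z := Module.Finite.of_restrictScalars_finite (Localization.AtPrime Q) R' Z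
  haveI : Nontrivial Z := Submodule.Quotient.nontrivial_iff.mpr fun h =>
    maximalIdeal_smul_top_ne_top (R := Localization.AtPrime Q) (M := LocalizedModule Q.primeCompl F)
      (top_le_iff.mp (h.ge.trans (Submodule.smul_mono_left hK)))
  have hsurj : Function.Surjective (algebraMap (Localization.AtPrime Q) R') := Ideal.Quotient.mk_surjective
  have hk' : min (k : WithBot ℕ∞) (Module.supportDim R' Z) ≤ ((depth R' Z : ℕ∞) : WithBot ℕ∞) :=
    min_le_of_hasSk_local Z hfib
  rw [supportDim_eq_of_surjective Z hsurj, depth_eq_of_surjective hsurj] at hk'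
  exact min_add_le k (Module.supportDim_ne_bot_of_nontrivial _ _) (Module.supportDim_ne_bot_of_nontrivial _ _) hE hk'

end Groth.Agent.FlatSerre
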