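import Groth.Agent.FlatSerre.Module
import Mathlib

/-!
# Serre's conditions at a prime and localisation of `N ⊗ M`
-/

universe u

open TensorProduct

namespace Groth.Agent.FlatSerre

open IsLocalRing LocCoh DepthLib

section Bridge

variable {R : Type u} [CommRing R] (M : Type u) [AddCommGroup M] [Module R M] [Module.Finite R M] (p : Ideal R) [p.IsPrime]

/-- Localisation in two steps does not change depth and dimension. -/
theorem invariants_localized_twice (Q : Ideal (Localization.AtPrime p)) [Q.IsPrime] (p' : Ideal R) [p'.IsPrime]
    (h : Q.comap (algebraMap R (Localization.AtPrime p)) = p') :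
    depth (Localization.AtPrime Q) (LocalizedModule Q.primeCompl (LocalizedModule p.primeCompl M)) =
      depth (Localization.AtPrime p') (LocalizedModule p'.primeCompl M) ∧
    Module.supportDim (Localization.AtPrime Q) (LocalizedModule Q.primeCompl (LocalizedModule p.primeCompl M)) =
      Module.supportDim (Localization.AtPrime p') (LocalizedModule p'.primeCompl M) := by
  subst h
  set p' := Q.comap (algebraMap R (Localization.AtPrime p))
  have hloc : IsLocalization.AtPrime (Localization.AtPrime Q) p' :=
    IsLocalization.isLocalization_isLocalization_atPrime_isLocalization p.primeCompl (Localization.AtPrime Q) Q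
  let e : Localization.AtPrime p' ≃ₐ[R] Localization.AtPrime Q :=
    IsLocalization.algEquiv p'.primeCompl (Localization.AtPrime p') (Localization.AtPrime Q)
  let N := LocalizedModule Q.primeCompl (LocalizedModule p.primeCompl M)
  letI : Algebra (Localization.AtPrime p') (Localization.AtPrime Q) := e.toAlgHom.toRingHom.toAlgebra
  have hsurj : Function.Surjective (algebraMap (Localization.AtPrime p') (Localization.AtPrime Q)) := e.surjective
  haveI : IsScalarTower R (Localization.AtPrime p') (Localization.AtPrime Q) :=
    .of_algebraMap_eq fun x => (e.commutes x).symm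
  letI : Module (Localization.AtPrime p') N := Module.compHom N (algebraMap (Localization.AtPrime p') (Localization.AtPrime Q))
  haveI : IsScalarTower (Localization.AtPrime p') (Localization.AtPrime Q) N :=
    .of_algebraMap_smul fun _ _ => rfl
  haveI : IsScalarTower R (Localization.AtPrime Q) N := .of_algebraMap_smul fun r x => by
    rw [IsScalarTower.algebraMap_apply R (Localization.AtPrime p) (Localization.AtPrime Q), algebraMap_smul, algebraMap_smul]
  haveI : IsScalarTower R (Localization.AtPrime p') N := .of_algebraMap_smul fun r x => by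
    rw [← algebraMap_smul (Localization.AtPrime Q) (algebraMap R (Localization.AtPrime p') r) x,
      ← IsScalarTower.algebraMap_apply, algebraMap_smul]
  let g : M →ₗ[R] N := ((LocalizedModule.mkLinearMap Q.primeCompl (LocalizedModule p.primeCompl M)).restrictScalars R).comp
    (LocalizedModule.mkLinearMap p.primeCompl M)
  have hb : IsBaseChange (Localization.AtPrime Q) g :=
    IsBaseChange.comp (LocalizedModule.isBaseChange p.primeCompl M) (LocalizedModule.isBaseChange Q.primeCompl _)
  haveI : IsLocalizedModule p'.primeCompl g :=
    (isLocalizedModule_iff_isBaseChange p'.primeCompl (Localization.AtPrime Q) g).mpr hb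
  let E : LocalizedModule p'.primeCompl M ≃ₗ[Localization.AtPrime p'] N :=
    (IsLocalizedModule.iso p'.primeCompl g).extendScalarsOfIsLocalization p'.primeCompl _
  exact ⟨(depth_eq_of_surjective hsurj).trans (depth_congr E).symm,
    (supportDim_eq_of_surjective N hsurj).trans (Module.supportDim_eq_of_equiv E).symm⟩

/-- `(S_k)` at `p` in terms of the generisations of `p`. -/
theorem hasSkAt_iff {k : ℕ} : EGA4.HasSkAt k R M p ↔ ∀ (p' : Ideal R) [p'.IsPrime], p' ≤ p →
    min (k : WithBot ℕ∞) (Module.supportDim (Localization.AtPrime p') (LocalizedModule p'.primeCompl M)) ≤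
      ((depth (Localization.AtPrime p') (LocalizedModule p'.primeCompl M) : ℕ∞) : WithBot ℕ∞) := by
  refine ⟨fun h p' hp' hle => ?_, fun h Q hQ => ?_⟩
  · haveI : (p'.map (algebraMap R (Localization.AtPrime p))).IsPrime :=
      IsLocalization.isPrime_of_isPrime_disjoint p.primeCompl _ p' hp'
        (Set.disjoint_left.mpr fun x hx hx' => hx (hle hx'))
    obtain ⟨e₁, e₂⟩ := invariants_localized_twice M p (p'.map (algebraMap R (Localization.AtPrime p))) p'
      (IsLocalization.comap_map_of_isPrime_disjoint p.primeCompl _ hp'
        (Set.disjoint_left.mpr fun x hx hx' => hx (hle hx')))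
    have := h (p'.map (algebraMap R (Localization.AtPrime p)))
    rwa [e₁, e₂] at this
  · obtain ⟨e₁, e₂⟩ := invariants_localized_twice M p Q _ rfl
    rw [e₁, e₂]
    exact h _ ((Ideal.comap_mono (IsLocalRing.le_maximalIdeal hQ.ne_top)).trans
      Localization.AtPrime.under_maximalIdeal.le)

end Bridge

section Tensor

variable {A B : Type u} [CommRing A] [CommRing B] [Algebra A B]

theorem flat_localizedModule (S : Submonoid B) (F : Type u) [AddCommGroup F] [Module B F] [Module A F]
    [IsScalarTower A B F] [Module.Flat A F] : Module.Flat A (LocalizedModule S F) := by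
  suffices Module.Flat A (Localization S ⊗[B] F) from
    Module.Flat.of_linearEquiv ((LocalizedModule.equivTensorProduct S F).restrictScalars A)
  rw [Module.Flat.iff_lTensor_injective']
  intro I
  let α := AlgebraTensorModule.assoc A B B (Localization S) F I
  let β := AlgebraTensorModule.assoc A B B (Localization S) F A
  let γ := (AlgebraTensorModule.map (LinearMap.id : F →ₗ[B] F) I.subtype).lTensor (Localization S)
  have h : ∀ x, β (I.subtype.lTensor (Localization S ⊗[B] F) x) = γ (α x) := fun x => by
    induction x using TensorProduct.induction_on with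
    | zero => simp
    | add a b ha hb => simp only [map_add, ha, hb]
    | tmul t i =>
      induction t using TensorProduct.induction_on with
      | zero => simp
      | add a b ha hb => simp only [add_tmul, map_add, ha, hb]
      | tmul s f => rfl
  have hγ : Function.Injective γ := Module.Flat.lTensor_preserves_injective_linearMap _
    (Module.Flat.lTensor_preserves_injective_linearMap _ Subtype.val_injective)
  intro x y hxy
  exact α.injective (hγ (by rw [← h, ← h, hxy]))

variable [IsNoetherianRing A] [IsNoetherianRing B]
variable (F : Type u) [AddCommGroup F] [Module B F] [Module A F] [IsScalarTower A B F] [Module.Finite B F]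
  [Module.Flat A F] (E : Type u) [AddCommGroup E] [Module A E] [Module.Finite A E]

/-- Depth and dimension of `(F ⊗ E)_Q` from those of `E` at the image and of the fibre of `F`. -/
theorem invariants_tensor_localized (Q : Ideal B) [Q.IsPrime] (p : Ideal A) [p.IsPrime]
    (hp : Q.comap (algebraMap A B) = p) (hF : Nontrivial (LocalizedModule Q.primeCompl F)) :
    depth (Localization.AtPrime Q) (LocalizedModule Q.primeCompl (F ⊗[A] E)) =
      depth (Localization.AtPrime p) (LocalizedModule p.primeCompl E) +
        depth (Localization.AtPrime Q) (LocalizedModule Q.primeCompl F ⧸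
          (p.map (algebraMap A (Localization.AtPrime Q)) • (⊤ : Submodule (Localization.AtPrime Q) (LocalizedModule Q.primeCompl F)))) ∧
    (Nontrivial (LocalizedModule p.primeCompl E) →
      Module.supportDim (Localization.AtPrime Q) (LocalizedModule Q.primeCompl (F ⊗[A] E)) =
      Module.supportDim (Localization.AtPrime p) (LocalizedModule p.primeCompl E) +
        Module.supportDim (Localization.AtPrime Q) (LocalizedModule Q.primeCompl F ⧸
          (p.map (algebraMap A (Localization.AtPrime Q)) • (⊤ : Submodule (Localization.AtPrime Q) (LocalizedModule Q.primeCompl F))))) := by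
  subst hp
  set p := Q.comap (algebraMap A B)
  let Ap := Localization.AtPrime p
  let BQ := Localization.AtPrime Q
  let FQ := LocalizedModule Q.primeCompl F
  let Ep := LocalizedModule p.primeCompl E
  letI : Algebra Ap BQ := (Localization.localRingHom p Q (algebraMap A B) rfl).toAlgebra
  haveI : IsScalarTower A Ap BQ := .of_algebraMap_eq fun x => by
    rw [RingHom.algebraMap_toAlgebra, Localization.localRingHom_to_map, ← IsScalarTower.algebraMap_apply]
  haveI : IsLocalHom (algebraMap Ap BQ) := Localization.isLocalHom_localRingHom p Q (algebraMap A B) rfl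
  letI : Module Ap FQ := Module.compHom FQ (algebraMap Ap BQ)
  haveI : IsScalarTower Ap BQ FQ := .of_algebraMap_smul fun _ _ => rfl
  haveI : IsScalarTower A BQ FQ := .of_algebraMap_smul fun r x => by
    rw [IsScalarTower.algebraMap_apply A B BQ, algebraMap_smul, algebraMap_smul]
  haveI : IsScalarTower A Ap FQ := .of_algebraMap_smul fun r x => by
    rw [← algebraMap_smul BQ (algebraMap A Ap r) x, ← IsScalarTower.algebraMap_apply, algebraMap_smul]
  haveI : Module.Flat A FQ := flat_localizedModule Q.primeCompl F
  haveI : Module.Flat Ap FQ := (Module.flat_iff_of_isLocalization Ap p.primeCompl FQ).2 inferInstance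
  let e : LocalizedModule Q.primeCompl (F ⊗[A] E) ≃ₗ[BQ] FQ ⊗[Ap] Ep :=
    LocalizedModule.equivTensorProduct Q.primeCompl (F ⊗[A] E) ≪≫ₗ
      (AlgebraTensorModule.assoc A B BQ BQ F E).symm ≪≫ₗ
      AlgebraTensorModule.congr (LocalizedModule.equivTensorProduct Q.primeCompl F).symm (LinearEquiv.refl A E) ≪≫ₗ
      (AlgebraTensorModule.cancelBaseChange A Ap BQ FQ E).symm ≪≫ₗ
      AlgebraTensorModule.congr (LinearEquiv.refl BQ FQ) (LocalizedModule.equivTensorProduct p.primeCompl E).symm
  have hm : (maximalIdeal Ap).map (algebraMap Ap BQ) = p.map (algebraMap A BQ) := by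
    rw [← Localization.AtPrime.map_eq_maximalIdeal, Ideal.map_map, ← IsScalarTower.algebraMap_eq]
  let e₂ : FQ ⊗[Ap] (Ap ⧸ maximalIdeal Ap) ≃ₗ[BQ]
      FQ ⧸ (p.map (algebraMap A BQ) • (⊤ : Submodule BQ FQ)) :=
    FlatDepthFormula.tensorQuot FQ (maximalIdeal Ap) ≪≫ₗ Submodule.quotEquivOfEq _ _ (by rw [hm])
  refine ⟨?_, fun hE => ?_⟩
  · rw [depth_congr e, FlatDepthFormula.depth_tensor (M := FQ) Ep, depth_congr e₂]
  · rw [Module.supportDim_eq_of_equiv e, supportDim_tensor FQ Ep, hm]

end Tensor

end Groth.Agent.FlatSerre
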