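import Groth.Agent.FlatSerre.Comp
import Groth.Agent.DepthLib.CohenMacaulay
import Mathlib

/-!
# Dimension and depth along flat maps at a prime, and of fibres of composites
-/

universe u

open TensorProduct

namespace Groth.Agent.FlatSerre

open IsLocalRing LocCoh DepthLib FlatAscent

section

variable {A B : Type u} [CommRing A] [CommRing B] [Algebra A B] (q : Ideal B) [q.IsPrime]

theorem fibLocIdeal_le :
    (q.comap (algebraMap A B)).map (algebraMap A (Localization.AtPrime q)) ≤ maximalIdeal (Localization.AtPrime q) := by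
  rw [← Localization.AtPrime.map_eq_maximalIdeal]
  refine le_trans ?_ (Ideal.map_mono (Ideal.map_comap_le (f := algebraMap A B) (K := q)))
  rw [Ideal.map_map, ← IsScalarTower.algebraMap_eq]

instance isLocalRing_fibLocRing : IsLocalRing (EGA4.FibLocRing A B q) :=
  haveI : Nontrivial (EGA4.FibLocRing A B q) := Ideal.Quotient.nontrivial_iff.mpr
    (ne_top_of_le_ne_top (maximalIdeal.isMaximal _).ne_top (fibLocIdeal_le q))
  IsLocalRing.of_surjective' (Ideal.Quotient.mk _) Ideal.Quotient.mk_surjective

variable [IsNoetherianRing A] [IsNoetherianRing B] [Module.Flat A B]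

/-- Dimension and depth at a prime of a flat algebra. -/
theorem invariants_atPrime :
    ringKrullDim (Localization.AtPrime q) = ringKrullDim (Localization.AtPrime (q.comap (algebraMap A B))) +
      ringKrullDim (EGA4.FibLocRing A B q) ∧
    depth (Localization.AtPrime q) (Localization.AtPrime q) =
      depth (Localization.AtPrime (q.comap (algebraMap A B))) (Localization.AtPrime (q.comap (algebraMap A B))) +
      depth (EGA4.FibLocRing A B q) (EGA4.FibLocRing A B q) := by
  obtain ⟨_, _, _, ⟨e⟩⟩ := exists_local_setting (A := A) q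
  haveI := isLocalRing_fibre (Localization.AtPrime (q.comap (algebraMap A B))) (Localization.AtPrime q)
  rw [ringKrullDim_eq_of_ringEquiv e, ← depth_eq_of_ringEquiv e]
  exact ⟨ringKrullDim_eq_add _ _, depth_self_eq_add _ _⟩

end

/-- Dimension and depth of `S / J S` for a flat local homomorphism `R → S`. -/
theorem invariants_quotient (R S : Type u) [CommRing R] [CommRing S] [IsLocalRing R] [IsLocalRing S]
    [IsNoetherianRing R] [IsNoetherianRing S] [Algebra R S] [IsLocalHom (algebraMap R S)]
    [Module.Flat R S] (J : Ideal R) [IsLocalRing (R ⧸ J)] [IsLocalRing (S ⧸ J.map (algebraMap R S))]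
    [IsLocalRing (Fib R S)] :
    ringKrullDim (S ⧸ J.map (algebraMap R S)) = ringKrullDim (R ⧸ J) + ringKrullDim (Fib R S) ∧
    depth (S ⧸ J.map (algebraMap R S)) (S ⧸ J.map (algebraMap R S)) =
      depth (R ⧸ J) (R ⧸ J) + depth (Fib R S) (Fib R S) := by
  let φ : R ⧸ J →+* S ⧸ J.map (algebraMap R S) := Ideal.quotientMap _ (algebraMap R S) Ideal.le_comap_map
  letI : Algebra (R ⧸ J) (S ⧸ J.map (algebraMap R S)) := φ.toAlgebra
  haveI : IsScalarTower R (R ⧸ J) (S ⧸ J.map (algebraMap R S)) :=
    .of_algebraMap_eq fun x => (Ideal.quotientMap_mk (f := algebraMap R S)).symm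
  haveI := flat_quotient_map (R := R) (S := S) J
  have hJ : J ≤ maximalIdeal R := le_maximalIdeal fun h => by
    exact not_subsingleton (R ⧸ J) (Ideal.Quotient.subsingleton_iff.mpr h)
  have hm : (maximalIdeal R).map (algebraMap R (R ⧸ J)) = maximalIdeal (R ⧸ J) :=
    IsLocalRing.map_maximalIdeal_of_surjective _ Ideal.Quotient.mk_surjective
  have hm' : (maximalIdeal (R ⧸ J)).map φ =
      ((maximalIdeal R).map (algebraMap R S)).map (Ideal.Quotient.mk (J.map (algebraMap R S))) := by
    rw [← hm, Ideal.map_map, Ideal.map_map]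
    congr 1
  haveI : IsLocalHom (algebraMap (R ⧸ J) (S ⧸ J.map (algebraMap R S))) := by
    refine ((IsLocalRing.local_hom_TFAE _).out 2 0 rfl rfl).mp ?_
    show (maximalIdeal (R ⧸ J)).map φ ≤ _
    rw [hm', ← IsLocalRing.map_maximalIdeal_of_surjective _ (Ideal.Quotient.mk_surjective (I := J.map (algebraMap R S)))]
    exact Ideal.map_mono (map_le R S)
  let e : Fib R S ≃+* Fib (R ⧸ J) (S ⧸ J.map (algebraMap R S)) :=
    (DoubleQuot.quotQuotEquivQuotOfLE (Ideal.map_mono (f := algebraMap R S) hJ)).symm.trans
      (Ideal.quotEquivOfEq hm'.symm)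
  haveI : IsLocalRing (Fib (R ⧸ J) (S ⧸ J.map (algebraMap R S))) := e.isLocalRing
  rw [ringKrullDim_eq_of_ringEquiv e, ← depth_eq_of_ringEquiv e]
  exact ⟨ringKrullDim_eq_add _ _, depth_self_eq_add _ _⟩

variable {A B C : Type u} [CommRing A] [CommRing B] [CommRing C]
  [IsNoetherianRing B] [IsNoetherianRing C] [Algebra A B] [Algebra B C] [Algebra A C] [IsScalarTower A B C]
  [Module.Flat B C]

/-- Fibres of a composite. -/
theorem invariants_fibre_comp (r : Ideal C) [r.IsPrime] :
    ringKrullDim (EGA4.FibLocRing A C r) =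
      ringKrullDim (EGA4.FibLocRing A B (r.comap (algebraMap B C))) + ringKrullDim (EGA4.FibLocRing B C r) ∧
    depth (EGA4.FibLocRing A C r) (EGA4.FibLocRing A C r) =
      depth (EGA4.FibLocRing A B (r.comap (algebraMap B C))) (EGA4.FibLocRing A B (r.comap (algebraMap B C))) +
        depth (EGA4.FibLocRing B C r) (EGA4.FibLocRing B C r) := by
  let q := r.comap (algebraMap B C)
  let p := q.comap (algebraMap A B)
  have hp : r.comap (algebraMap A C) = p := by
    rw [IsScalarTower.algebraMap_eq A B C, ← Ideal.comap_comap]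
  letI : Algebra (Localization.AtPrime q) (Localization.AtPrime r) :=
    (Localization.localRingHom q r (algebraMap B C) rfl).toAlgebra
  haveI hT : IsScalarTower B (Localization.AtPrime q) (Localization.AtPrime r) := .of_algebraMap_eq fun x => by
    rw [RingHom.algebraMap_toAlgebra, Localization.localRingHom_to_map, ← IsScalarTower.algebraMap_apply]
  haveI : IsLocalHom (algebraMap (Localization.AtPrime q) (Localization.AtPrime r)) :=
    Localization.isLocalHom_localRingHom q r (algebraMap B C) rfl
  haveI : Module.Flat B (Localization.AtPrime r) := Module.Flat.trans B C (Localization.AtPrime r)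
  haveI : Module.Flat (Localization.AtPrime q) (Localization.AtPrime r) :=
    (Module.flat_iff_of_isLocalization (Localization.AtPrime q) q.primeCompl (Localization.AtPrime r)).2 inferInstance
  haveI := isLocalRing_fibre (Localization.AtPrime q) (Localization.AtPrime r)
  let J : Ideal (Localization.AtPrime q) := p.map (algebraMap A (Localization.AtPrime q))
  haveI : IsLocalRing (Localization.AtPrime q ⧸ J) := isLocalRing_fibLocRing q
  let e : EGA4.FibLocRing B C r ≃+* Fib (Localization.AtPrime q) (Localization.AtPrime r) :=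
    Ideal.quotEquivOfEq (by
      rw [← Localization.AtPrime.map_eq_maximalIdeal, Ideal.map_map, ← IsScalarTower.algebraMap_eq])
  let e₂ : Localization.AtPrime r ⧸ J.map (algebraMap (Localization.AtPrime q) (Localization.AtPrime r)) ≃+*
      EGA4.FibLocRing A C r :=
    Ideal.quotEquivOfEq (by
      rw [hp, Ideal.map_map]
      congr 1
      ext a
      rw [RingHom.comp_apply, IsScalarTower.algebraMap_apply A B (Localization.AtPrime q),
        ← IsScalarTower.algebraMap_apply B (Localization.AtPrime q) (Localization.AtPrime r),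
        IsScalarTower.algebraMap_apply A C (Localization.AtPrime r),
        IsScalarTower.algebraMap_apply A B C, ← IsScalarTower.algebraMap_apply B C (Localization.AtPrime r)])
  haveI := e₂.symm.isLocalRing
  obtain ⟨h1, h2⟩ := invariants_quotient (Localization.AtPrime q) (Localization.AtPrime r) J
  rw [← ringKrullDim_eq_of_ringEquiv e₂, depth_eq_of_ringEquiv e₂, ringKrullDim_eq_of_ringEquiv e,
    ← depth_eq_of_ringEquiv e]
  exact ⟨h1, h2⟩

omit [IsNoetherianRing B] [Module.Flat B C] in
/-- Below a prime over `q` there is one at which the fibre is zero dimensional. -/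
theorem exists_fibLoc_dim_zero (q : Ideal B) [q.IsPrime] (r₀ : Ideal C) [r₀.IsPrime]
    (h : r₀.comap (algebraMap B C) = q) :
    ∃ (r : Ideal C) (_ : r.IsPrime), r ≤ r₀ ∧ r.comap (algebraMap B C) = q ∧
      ringKrullDim (EGA4.FibLocRing B C r) = 0 ∧ depth (EGA4.FibLocRing B C r) (EGA4.FibLocRing B C r) = 0 := by
  obtain ⟨r, hr, hle⟩ := Ideal.exists_minimalPrimes_le (I := q.map (algebraMap B C)) (J := r₀)
    (Ideal.map_le_iff_le_comap.mpr h.ge)
  haveI := hr.1.1
  have hrq : r.comap (algebraMap B C) = q :=
    le_antisymm ((Ideal.comap_mono hle).trans h.le) (Ideal.map_le_iff_le_comap.mp hr.1.2)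
  let T := Localization.AtPrime r
  have hdim : ringKrullDim (EGA4.FibLocRing B C r) = 0 := by
    refine le_antisymm ?_ ringKrullDim_nonneg_of_nontrivial
    rw [ringKrullDim_quotient]
    suffices Subsingleton (PrimeSpectrum.zeroLocus
      ((r.comap (algebraMap B C)).map (algebraMap B T) : Set T)) from Order.krullDim_nonpos_of_subsingleton
    refine ⟨fun x y => ?_⟩
    have key : ∀ z ∈ PrimeSpectrum.zeroLocus ((r.comap (algebraMap B C)).map (algebraMap B T) : Set T),
        z.asIdeal = maximalIdeal T := by
      intro z hz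
      have hc : q.map (algebraMap B C) ≤ z.asIdeal.comap (algebraMap C T) := by
        rw [Ideal.map_le_iff_le_comap, Ideal.comap_comap, ← IsScalarTower.algebraMap_eq,
          ← Ideal.map_le_iff_le_comap, ← hrq]
        exact SetLike.coe_subset_coe.mp ((PrimeSpectrum.mem_zeroLocus _ _).mp hz)
      have hle' : z.asIdeal.comap (algebraMap C T) ≤ r :=
        (Ideal.comap_mono (IsLocalRing.le_maximalIdeal z.2.ne_top)).trans Localization.AtPrime.under_maximalIdeal.le
      have he := le_antisymm hle' (hr.2 ⟨inferInstance, hc⟩ hle')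
      rw [← IsLocalization.map_comap r.primeCompl T z.asIdeal, ← Localization.AtPrime.map_eq_maximalIdeal]
      exact congrArg _ he
    exact Subtype.ext (PrimeSpectrum.ext ((key _ x.2).trans (key _ y.2).symm))
  refine ⟨r, inferInstance, hle, hrq, hdim, ?_⟩
  have := depth_le_supportDim (R := EGA4.FibLocRing B C r) (EGA4.FibLocRing B C r)
  rw [Module.supportDim_self_eq_ringKrullDim, hdim] at this
  exact nonpos_iff_eq_zero.mp (WithBot.coe_le_coe.mp this)

/-- A fibre ring of a Noetherian algebra is Noetherian. -/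
theorem isNoetherianRing_fiber {A B : Type u} [CommRing A] [CommRing B] [Algebra A B] [IsNoetherianRing B]
    (p : Ideal A) [p.IsPrime] : IsNoetherianRing (p.Fiber B) := by
  have := Algebra.EssFiniteType.isNoetherianRing B (B ⊗[A] p.ResidueField)
  exact isNoetherianRing_of_ringEquiv (B ⊗[A] p.ResidueField)
    (Algebra.TensorProduct.comm A B p.ResidueField).toRingEquiv

/-- Cohen-Macaulayness of a ring in terms of dimension and depth. -/
theorem isCMRing_iff {R : Type u} [CommRing R] [IsNoetherianRing R] :
    IsCohenMacaulayRing R ↔ ∀ (p : Ideal R) [p.IsPrime], ringKrullDim (Localization.AtPrime p) ≤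
      ((depth (Localization.AtPrime p) (Localization.AtPrime p) : ℕ∞) : WithBot ℕ∞) :=
  ⟨fun h p _ => DepthLib.isCohenMacaulayLocalRing_iff.mp (h.isCohenMacaulayLocalRing_localization p),
    fun h => { isCohenMacaulayLocalRing_localization := fun p _ => DepthLib.isCohenMacaulayLocalRing_iff.mpr (h p) }⟩

/-- Local rings of fibre rings are fibre local rings. -/
theorem exists_fibLoc_of_fiber_prime {A B : Type u} [CommRing A] [CommRing B] [Algebra A B] (p : Ideal A) [p.IsPrime]
    (Q : Ideal (p.Fiber B)) [Q.IsPrime] :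
    ∃ (r : Ideal B) (_ : r.IsPrime), r.comap (algebraMap A B) = p ∧
      Nonempty (Localization.AtPrime Q ≃+* EGA4.FibLocRing A B r) := by
  let r := Q.comap (Algebra.TensorProduct.includeRight : B →ₐ[A] p.Fiber B)
  have hp : r.comap (algebraMap A B) = p := by
    have h : Q.comap (algebraMap A (p.Fiber B)) = p :=
      ((PrimeSpectrum.preimageEquivFiber A B ⟨p, inferInstance⟩).symm ⟨Q, inferInstance⟩).2 |> fun h => by
        have := congrArg PrimeSpectrum.asIdeal h
        rw [← AlgHom.comp_algebraMap (Algebra.TensorProduct.includeRight : B →ₐ[A] p.Fiber B)]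
        exact this
    refine Eq.trans ?_ h
    show Ideal.comap _ (Ideal.comap _ Q) = _
    ext a
    simp only [Ideal.mem_comap, AlgHom.commutes]
  refine ⟨r, inferInstance, hp, ⟨(Ideal.Fiber.algEquivAux₂ p Q).toRingEquiv.trans (Ideal.quotEquivOfEq ?_)⟩⟩
  rw [hp, Ideal.map_map, ← IsScalarTower.algebraMap_eq]

/-- Cohen-Macaulayness of all fibre rings in terms of fibre local rings. -/
theorem isCMRing_fibers_iff {A B : Type u} [CommRing A] [CommRing B] [Algebra A B] [IsNoetherianRing B] :
    (∀ (p : Ideal A) [p.IsPrime], IsCohenMacaulayRing (p.Fiber B)) ↔ ∀ (r : Ideal B) [r.IsPrime],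
      ringKrullDim (EGA4.FibLocRing A B r) ≤
        ((depth (EGA4.FibLocRing A B r) (EGA4.FibLocRing A B r) : ℕ∞) : WithBot ℕ∞) := by
  refine ⟨fun h r _ => ?_, fun h p _ => ?_⟩
  · obtain ⟨Q, _, ⟨e⟩⟩ := exists_fibre_prime (A := A) r
    haveI := isNoetherianRing_fiber (B := B) (r.comap (algebraMap A B))
    have hd : depth (EGA4.FibLocRing A B r) (EGA4.FibLocRing A B r) = depth (Localization.AtPrime Q) (Localization.AtPrime Q) :=
      depth_eq_of_ringEquiv (show Localization.AtPrime Q ≃+* EGA4.FibLocRing A B r from e)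
    rw [← ringKrullDim_eq_of_ringEquiv e, hd]
    exact isCMRing_iff.mp (h _) Q
  · haveI := isNoetherianRing_fiber (B := B) p
    refine isCMRing_iff.mpr fun Q _ => ?_
    obtain ⟨r, _, _, ⟨e⟩⟩ := exists_fibLoc_of_fiber_prime p Q
    rw [ringKrullDim_eq_of_ringEquiv e, ← depth_eq_of_ringEquiv e]
    exact h r

end Groth.Agent.FlatSerre
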