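import Groth.Agent.FlatSerre.Invariants
import Groth.Agent.FlatAscent.FieldExt
import Groth.Agent.Catenary.CM
import Mathlib

/-!
# Tensor products of fields are Cohen-Macaulay
-/

universe u

open TensorProduct
open scoped IntermediateField.algebraAdjoinAdjoin

namespace Groth.Agent.FlatSerre

open IsLocalRing LocCoh DepthLib FlatAscent

theorem isCMRing_of_isArtinianRing (R : Type u) [CommRing R] [IsArtinianRing R] : IsCohenMacaulayRing R :=
  isCMRing_iff.mpr fun _ _ =>
    (Ring.krullDimLE_iff.mp (inferInstance : Ring.KrullDimLE 0 _)).trans (WithBot.coe_le_coe.mpr bot_le)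

theorem isCMRing_transport {R S : Type u} [CommRing R] [CommRing S] [IsNoetherianRing R] (e : R ≃+* S)
    (h : IsCohenMacaulayRing R) : IsCohenMacaulayRing S := by
  haveI := isNoetherianRing_of_ringEquiv R e
  refine isCMRing_iff.mpr fun q _ => ?_
  let f : Localization.AtPrime (q.comap e) ≃+* Localization.AtPrime q :=
    IsLocalization.ringEquivOfRingEquiv _ _ e (e.map_primeCompl_comap_eq q)
  rw [← ringKrullDim_eq_of_ringEquiv f, depth_eq_of_ringEquiv f]
  exact isCMRing_iff.mp h _

/-- Cohen-Macaulay ascends along flat maps with Cohen-Macaulay fibres. -/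
theorem isCMRing_of_fibres {A B : Type u} [CommRing A] [CommRing B] [IsNoetherianRing A] [IsNoetherianRing B]
    [Algebra A B] [Module.Flat A B] (hA : IsCohenMacaulayRing A)
    (h : ∀ (p : Ideal A) [p.IsPrime], IsCohenMacaulayRing (p.Fiber B)) : IsCohenMacaulayRing B := by
  refine isCMRing_iff.mpr fun q _ => ?_
  obtain ⟨e1, e2⟩ := invariants_atPrime (A := A) q
  rw [e1, e2, WithBot.coe_add]
  exact add_le_add (isCMRing_iff.mp hA _) (isCMRing_fibers_iff.mp h q)

theorem isCMRing_tensor_of_algebraic (k K₀ K L : Type u) [Field k] [Field K₀] [Field K] [Field L]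
    [Algebra k K₀] [Algebra k K] [Algebra k L] [Algebra K₀ K] [IsScalarTower k K₀ K]
    [Algebra.EssFiniteType k K] [Algebra.IsAlgebraic K₀ K] (h : IsRegularRing (L ⊗[k] K₀)) :
    IsCohenMacaulayRing (L ⊗[k] K) := by
  haveI := h
  let R := K₀ ⊗[k] L
  haveI : IsRegularRing R :=
    IsRegularRing.of_ringEquiv (R := L ⊗[k] K₀) (Algebra.TensorProduct.comm k L K₀).toRingEquiv
  let T := R ⊗[K₀] K
  haveI : Algebra.EssFiniteType K₀ K := Algebra.EssFiniteType.of_comp k K₀ K
  haveI : Module.Finite K₀ K := Algebra.finite_of_essFiniteType_of_isAlgebraic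
  haveI : IsNoetherianRing T := IsNoetherianRing.of_finite R T
  have hR : IsCohenMacaulayRing R := Catenary.isCohenMacaulayRing_of_isRegularRing R
  have hT : IsCohenMacaulayRing T := isCMRing_of_fibres (A := R) hR fun Q _ => by
    haveI : IsArtinianRing (Q.ResidueField ⊗[K₀] K) := IsArtinianRing.of_finite Q.ResidueField _
    exact isCMRing_transport
      (Algebra.TensorProduct.cancelBaseChange K₀ R Q.ResidueField Q.ResidueField K).symm.toRingEquiv
      (isCMRing_of_isArtinianRing _)
  exact isCMRing_transport (R := T)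
    (((Algebra.TensorProduct.comm K₀ R K).toRingEquiv.trans
      (Algebra.TensorProduct.cancelBaseChange k K₀ K K L).toRingEquiv).trans
      (Algebra.TensorProduct.comm k K L).toRingEquiv) hT


/-- `K ⊗ L` is Cohen-Macaulay when `K` is finitely generated over `k`. -/
theorem isCMRing_field_tensor (k K L : Type u) [Field k] [Field K] [Algebra k K] [Field L] [Algebra k L]
    [Algebra.EssFiniteType k K] : IsCohenMacaulayRing (L ⊗[k] K) := by
  classical
  obtain ⟨s, hs⟩ : ∃ t : Finset K, IsTranscendenceBasis k ((↑) : t → K) := by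
    have ⟨s, hs⟩ := IntermediateField.fg_top k K
    have : Algebra.IsAlgebraic (Algebra.adjoin k (s : Set K)) K := by
      rw [← IntermediateField.isAlgebraic_adjoin_iff_top, hs, Algebra.isAlgebraic_iff_isIntegral]
      exact Algebra.isIntegral_of_surjective IntermediateField.topEquiv.surjective
    have ⟨t, hts, ht⟩ := exists_isTranscendenceBasis_subset (R := k) (s : Set K)
    lift t to Finset K using s.finite_toSet.subset hts
    exact ⟨t, ht⟩
  let P₀ := Algebra.adjoin k (s : Set K)
  let K₀ := IntermediateField.adjoin k (s : Set K)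
  haveI : IsRegularRing (L ⊗[k] P₀) := by
    let e : MvPolynomial (↥s) k ≃ₐ[k] P₀ :=
      hs.1.aevalEquiv.trans (Subalgebra.equivOfEq _ _ (by rw [Subtype.range_coe_subtype]; rfl))
    exact IsRegularRing.of_ringEquiv (R := MvPolynomial (↥s) L)
      ((MvPolynomial.algebraTensorAlgEquiv k L).symm.trans
        (Algebra.TensorProduct.congr AlgEquiv.refl e)).toRingEquiv
  letI : Algebra (L ⊗[k] P₀) (L ⊗[k] K₀) :=
    (Algebra.TensorProduct.map (AlgHom.id L L) (IsScalarTower.toAlgHom k P₀ K₀)).toRingHom.toAlgebra
  have : IsScalarTower L (L ⊗[k] P₀) (L ⊗[k] K₀) :=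
    .of_algebraMap_eq fun c => ((Algebra.TensorProduct.map (AlgHom.id L L)
      (IsScalarTower.toAlgHom k P₀ K₀)).commutes c).symm
  have := IsLocalization.tensorProduct_tensorProduct_right (R := k) (S := L) (nonZeroDivisors P₀) K₀
    (RingHom.ext fun c => by simp [RingHom.algebraMap_toAlgebra])
  haveI : IsRegularRing (L ⊗[k] K₀) := PP16Lib.isRegularRing_of_isLocalization
    (T := L ⊗[k] P₀) ((nonZeroDivisors P₀).map (Algebra.TensorProduct.includeRight (R := k) (A := L)))
  haveI : Algebra.IsAlgebraic K₀ K := by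
    convert! hs.isAlgebraic_field <;> simp [K₀]
  exact isCMRing_tensor_of_algebraic k K₀ K L inferInstance

/-- Tensor products of fields, one finitely generated, are Cohen-Macaulay. -/
theorem isCMRing_tensor_fields (k K L : Type u) [Field k] [Field K] [Field L] [Algebra k K] [Algebra k L]
    (h : Algebra.EssFiniteType k K ∨ Algebra.EssFiniteType k L) : IsCohenMacaulayRing (K ⊗[k] L) := by
  rcases h with h | h
  · haveI := h
    haveI : IsNoetherianRing (L ⊗[k] K) := Algebra.EssFiniteType.isNoetherianRing L (L ⊗[k] K)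
    exact isCMRing_transport (Algebra.TensorProduct.comm k L K).toRingEquiv (isCMRing_field_tensor k K L)
  · haveI := h
    exact isCMRing_field_tensor k L K

end Groth.Agent.FlatSerre
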