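import Groth.Agent.FlatSerre.Basic
import Groth.Agent.DepthLib.CMModule
import Mathlib

/-!
# Depth along an ideal from a Cohen-Macaulay closed fibre
-/

universe u

open RingTheory.Sequence TensorProduct

namespace Groth.Agent.FlatSerre

open IsLocalRing LocCoh DepthLib FlatAscent

theorem ringKrullDim_fib_le (R S : Type u) [CommRing R] [IsLocalRing R] [IsNoetherianRing R] [CommRing S]
    [IsLocalRing S] [IsNoetherianRing S] [Algebra R S] [IsLocalHom (algebraMap R S)] [Module.Flat R S]
    (hCM : IsCohenMacaulayLocalRing (Fib R S)) (I : Ideal S) (hI : I ≠ ⊤) :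
    ringKrullDim (Fib R S) ≤ ringKrullDim (S ⧸ ((maximalIdeal R).map (algebraMap R S) ⊔ I)) +
      ((idealDepth I S : ℕ∞) : WithBot ℕ∞) := by
  haveI := isLocalRing_fibre R S
  let K : Ideal S := (maximalIdeal R).map (algebraMap R S)
  have hIm : I ≤ maximalIdeal S := le_maximalIdeal hI
  have hs : Function.Surjective (algebraMap S (Fib R S)) := Ideal.Quotient.mk_surjective
  let I' : Ideal (Fib R S) := I.map (algebraMap S (Fib R S))
  have hI' : I' ≠ ⊤ := ne_top_of_le_ne_top (maximalIdeal.isMaximal (Fib R S)).ne_top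
    ((Ideal.map_mono hIm).trans (IsLocalRing.map_maximalIdeal_of_surjective _ hs).le)
  have hd := supportDim_quotient_add_idealDepth
    (M := Fib R S) IsCohenMacaulayLocalRing.supportDim_eq_depth hI'
  rw [Module.supportDim_self_eq_ringKrullDim, idealDepth_map_of_surjective hs] at hd
  have e : Module.supportDim (Fib R S) (Fib R S ⧸ (I' • ⊤ : Submodule (Fib R S) (Fib R S))) =
      ringKrullDim (S ⧸ (K ⊔ I)) := by
    rw [Module.supportDim_eq_of_equiv (Submodule.quotEquivOfEq _ I' (by rw [smul_eq_mul, Ideal.mul_top])),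
      Module.supportDim_quotient_eq_ringKrullDim]
    exact ringKrullDim_eq_of_ringEquiv (DoubleQuot.quotQuotEquivQuotSup K I)
  rw [e] at hd
  rw [← hd]
  refine add_le_add le_rfl (WithBot.coe_le_coe.mpr ?_)
  have hne : I • (⊤ : Submodule S (Fib R S)) ≠ ⊤ := fun h => maximalIdeal_smul_top_ne_top (R := S) (M := Fib R S)
    (top_le_iff.mp (h.ge.trans (Submodule.smul_mono_left hIm)))
  refine (idealDepth_le_iff hne).mpr fun rs hrs hrsI => le_idealDepth_of_isWeaklyRegular rs ?_ hrsI
  refine FlatDepthFormula.isWeaklyRegular_self (A := R) rs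
    ((FlatDepthFormula.isWeaklyRegular_fibre_iff S rs).mpr ?_)
  exact ((Submodule.quotEquivOfEq _ K (by rw [smul_eq_mul, Ideal.mul_top])).isWeaklyRegular_congr rs).mpr hrs

end Groth.Agent.FlatSerre
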