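import Groth.Agent.FlatSerre.Basic
import Mathlib

/-!
# Serre's conditions on the fibres of a composite
-/

universe u

open TensorProduct

namespace Groth.Agent.FlatSerre

open IsLocalRing LocCoh DepthLib FlatAscent

/-- Reduction of a flat algebra modulo an ideal is flat. -/
theorem flat_quotient_map {R S : Type u} [CommRing R] [CommRing S] [Algebra R S] [Module.Flat R S] (J : Ideal R)
    [Algebra (R ⧸ J) (S ⧸ J.map (algebraMap R S))] [IsScalarTower R (R ⧸ J) (S ⧸ J.map (algebraMap R S))] :
    Module.Flat (R ⧸ J) (S ⧸ J.map (algebraMap R S)) := by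
  let e : (R ⧸ J) ⊗[R] S ≃ₗ[R] S ⧸ J.map (algebraMap R S) :=
    TensorProduct.quotTensorEquivQuotSMul S J ≪≫ₗ
      Submodule.quotEquivOfEq _ ((J.map (algebraMap R S)).restrictScalars R) (Ideal.smul_top_eq_map J) ≪≫ₗ
      Submodule.Quotient.restrictScalarsEquiv R (J.map (algebraMap R S))
  exact Module.Flat.of_linearEquiv (e.extendScalarsOfSurjective Ideal.Quotient.mk_surjective).symm

/-- `(S_k)` of `S / J S` at the closed point from `(S_k)` of `R / J` and of the closed fibre. -/
theorem skLoc_quotient (R S : Type u) [CommRing R] [CommRing S] [IsLocalRing R] [IsLocalRing S]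
    [IsNoetherianRing R] [IsNoetherianRing S] [Algebra R S] [IsLocalHom (algebraMap R S)]
    [Module.Flat R S] (J : Ideal R) {k : ℕ} [IsLocalRing (R ⧸ J)] [IsLocalRing (S ⧸ J.map (algebraMap R S))]
    [IsLocalRing (Fib R S)] (hR : SkLoc k (R ⧸ J)) (hF : SkLoc k (Fib R S)) :
    SkLoc k (S ⧸ J.map (algebraMap R S)) := by
  let φ : R ⧸ J →+* S ⧸ J.map (algebraMap R S) := Ideal.quotientMap _ (algebraMap R S) Ideal.le_comap_map
  letI : Algebra (R ⧸ J) (S ⧸ J.map (algebraMap R S)) := φ.toAlgebra
  haveI : IsScalarTower R (R ⧸ J) (S ⧸ J.map (algebraMap R S)) :=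
    .of_algebraMap_eq fun x => (Ideal.quotientMap_mk (f := algebraMap R S)).symm
  haveI := flat_quotient_map (R := R) (S := S) J
  have hJ : J ≤ maximalIdeal R := le_maximalIdeal fun h => by
    exact not_subsingleton (R ⧸ J) (Ideal.Quotient.subsingleton_iff.mpr h)
  have hm : (maximalIdeal R).map (algebraMap R (R ⧸ J)) = maximalIdeal (R ⧸ J) :=
    IsLocalRing.map_maximalIdeal_of_surjective _ Ideal.Quotient.mk_surjective
  have hm' : (maximalIdeal (R ⧸ J)).map φ =
      ((maximalIdeal R).map (algebraMap R S)).map (Ideal.Quotient.mk (J.map (algebraMap R S))) := by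
    rw [← hm, Ideal.map_map, Ideal.map_map]
    congr 1
  haveI : IsLocalHom (algebraMap (R ⧸ J) (S ⧸ J.map (algebraMap R S))) := by
    refine ((IsLocalRing.local_hom_TFAE _).out 2 0 rfl rfl).mp ?_
    show (maximalIdeal (R ⧸ J)).map φ ≤ _
    rw [hm', ← IsLocalRing.map_maximalIdeal_of_surjective _ (Ideal.Quotient.mk_surjective (I := J.map (algebraMap R S)))]
    exact Ideal.map_mono (map_le R S)
  let e : Fib R S ≃+* Fib (R ⧸ J) (S ⧸ J.map (algebraMap R S)) :=
    (DoubleQuot.quotQuotEquivQuotOfLE (Ideal.map_mono (f := algebraMap R S) hJ)).symm.trans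
      (Ideal.quotEquivOfEq hm'.symm)
  haveI : IsLocalRing (Fib (R ⧸ J) (S ⧸ J.map (algebraMap R S))) := e.isLocalRing
  exact skLoc_of_flat _ _ hR (hF.congr e)

variable {A B C : Type u} [CommRing A] [CommRing B] [CommRing C]
  [IsNoetherianRing B] [IsNoetherianRing C] [Algebra A B] [Algebra B C] [Algebra A C] [IsScalarTower A B C]
  [Module.Flat B C]

/-- `(S_k)` of the fibres of a composite. -/
theorem hasSk_fibre_comp {k : ℕ} (hAB : ∀ (p : Ideal A) [p.IsPrime], HasSk k (p.Fiber B) (p.Fiber B))
    (hBC : ∀ (q : Ideal B) [q.IsPrime], HasSk k (q.Fiber C) (q.Fiber C)) (p : Ideal A) [p.IsPrime] :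
    HasSk k (p.Fiber C) (p.Fiber C) := by
  refine hasSk_iff_forall_skLoc.mpr fun Q _ => ?_
  let r := Q.comap (Algebra.TensorProduct.includeRight : C →ₐ[A] p.Fiber C)
  let q := r.comap (algebraMap B C)
  let p' := q.comap (algebraMap A B)
  have hp : p' = p := by
    have h : Q.comap (algebraMap A (p.Fiber C)) = p :=
      ((PrimeSpectrum.preimageEquivFiber A C ⟨p, inferInstance⟩).symm ⟨Q, inferInstance⟩).2 |> fun h => by
        have := congrArg PrimeSpectrum.asIdeal h
        rw [← AlgHom.comp_algebraMap (Algebra.TensorProduct.includeRight : C →ₐ[A] p.Fiber C)]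
        exact this
    refine Eq.trans ?_ h
    show Ideal.comap _ (Ideal.comap _ (Ideal.comap _ Q)) = _
    rw [Ideal.comap_comap, ← IsScalarTower.algebraMap_eq]
    ext a
    simp only [Ideal.mem_comap, AlgHom.commutes]
  letI : Algebra (Localization.AtPrime q) (Localization.AtPrime r) :=
    (Localization.localRingHom q r (algebraMap B C) rfl).toAlgebra
  haveI hT : IsScalarTower B (Localization.AtPrime q) (Localization.AtPrime r) := .of_algebraMap_eq fun x => by
    rw [RingHom.algebraMap_toAlgebra, Localization.localRingHom_to_map, ← IsScalarTower.algebraMap_apply]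
  haveI : IsLocalHom (algebraMap (Localization.AtPrime q) (Localization.AtPrime r)) :=
    Localization.isLocalHom_localRingHom q r (algebraMap B C) rfl
  haveI : Module.Flat B (Localization.AtPrime r) := Module.Flat.trans B C (Localization.AtPrime r)
  haveI : Module.Flat (Localization.AtPrime q) (Localization.AtPrime r) :=
    (Module.flat_iff_of_isLocalization (Localization.AtPrime q) q.primeCompl (Localization.AtPrime r)).2 inferInstance
  let e : EGA4.FibLocRing B C r ≃+* Fib (Localization.AtPrime q) (Localization.AtPrime r) :=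
    Ideal.quotEquivOfEq (by
      rw [← Localization.AtPrime.map_eq_maximalIdeal, Ideal.map_map, ← IsScalarTower.algebraMap_eq])
  haveI := isLocalRing_fibre (Localization.AtPrime q) (Localization.AtPrime r)
  have hF : SkLoc k (Fib (Localization.AtPrime q) (Localization.AtPrime r)) :=
    skLoc_fibre r (hBC _) _ e
  let J : Ideal (Localization.AtPrime q) := p.map (algebraMap A (Localization.AtPrime q))
  have hJ : J ≤ maximalIdeal (Localization.AtPrime q) := by
    rw [← Localization.AtPrime.map_eq_maximalIdeal, Ideal.map_le_iff_le_comap]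
    intro a ha
    rw [Ideal.mem_comap, IsScalarTower.algebraMap_apply A B (Localization.AtPrime q)]
    exact Ideal.mem_map_of_mem _ (show a ∈ p' from hp.symm ▸ ha)
  haveI : Nontrivial (Localization.AtPrime q ⧸ J) :=
    Ideal.Quotient.nontrivial_iff.mpr (ne_top_of_le_ne_top (maximalIdeal.isMaximal _).ne_top hJ)
  haveI : IsLocalRing (Localization.AtPrime q ⧸ J) :=
    IsLocalRing.of_surjective' (Ideal.Quotient.mk J) Ideal.Quotient.mk_surjective
  have hR : SkLoc k (Localization.AtPrime q ⧸ J) :=
    skLoc_fibre q (hAB _) _ (Ideal.quotEquivOfEq (congrArg (Ideal.map (algebraMap A (Localization.AtPrime q))) hp))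
  have hJC : J.map (algebraMap (Localization.AtPrime q) (Localization.AtPrime r)) =
      (p.map (algebraMap A C)).map (algebraMap C (Localization.AtPrime r)) := by
    rw [Ideal.map_map, Ideal.map_map]
    congr 1
    ext a
    rw [RingHom.comp_apply, RingHom.comp_apply, IsScalarTower.algebraMap_apply A B (Localization.AtPrime q),
      ← IsScalarTower.algebraMap_apply B (Localization.AtPrime q) (Localization.AtPrime r),
      IsScalarTower.algebraMap_apply A B C, ← IsScalarTower.algebraMap_apply B C (Localization.AtPrime r)]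
  let e₂ : Localization.AtPrime r ⧸ J.map (algebraMap (Localization.AtPrime q) (Localization.AtPrime r)) ≃+*
      Localization.AtPrime Q :=
    (Ideal.quotEquivOfEq hJC).trans (Ideal.Fiber.algEquivAux₂ p Q).toRingEquiv.symm
  haveI := e₂.symm.isLocalRing
  exact (skLoc_quotient _ _ J hR hF).congr e₂

end Groth.Agent.FlatSerre
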