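import Groth.Agent.FlatSerre.Apps
import Groth.Agent.DepthLib.Localization
import Groth.Agent.DepthLib.LocalSequence
import Groth.Prelude.Def_EGA4b

/-!
# Depth of flat modules is bounded below by the depth on the fibres
-/

universe u

open TensorProduct IsLocalRing LocCoh

namespace Groth.Agent.FlatSerre

open DepthLib

variable {A B : Type u} [CommRing A] [CommRing B] [Algebra A B] [IsNoetherianRing A] [IsNoetherianRing B]
  (M : Type u) [AddCommGroup M] [Module B M] [Module A M] [IsScalarTower A B M] [Module.Finite B M] [Module.Flat A M]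

omit [IsNoetherianRing A] [IsNoetherianRing B] [Module A M] [IsScalarTower A B M] [Module.Finite B M] [Module.Flat A M] in
theorem idealDepth_fibLocMod (q : Ideal B) [q.IsPrime] :
    idealDepth (q.map (algebraMap B (EGA4.FibLocRing A B q))) (EGA4.FibLocMod A B q M) =
      depth (Localization.AtPrime q) (EGA4.FibLocMod A B q M) := by
  have hs : Function.Surjective (algebraMap (Localization.AtPrime q) (EGA4.FibLocRing A B q)) :=
    Ideal.Quotient.mk_surjective
  rw [IsScalarTower.algebraMap_eq B (Localization.AtPrime q) (EGA4.FibLocRing A B q), ← Ideal.map_map,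
    Localization.AtPrime.map_eq_maximalIdeal, idealDepth_map_of_surjective hs]
  rfl

theorem le_dep_of_fibre (q : Ideal B) [q.IsPrime] :
    idealDepth (q.map (algebraMap B (EGA4.FibLocRing A B q))) (EGA4.FibLocMod A B q M) ≤
      depth (Localization.AtPrime q) (LocalizedModule q.primeCompl M) := by
  rcases subsingleton_or_nontrivial (LocalizedModule q.primeCompl M) with h | h
  · rw [depth_eq_top_of_subsingleton (R := Localization.AtPrime q) (M := LocalizedModule q.primeCompl M)]
    exact le_top
  rw [idealDepth_fibLocMod]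
  have h1 := (invariants_tensor_localized (A := A) M A q _ rfl h).1
  rw [depth_congr (localizedCongr q.primeCompl (AlgebraTensorModule.rid A B M))] at h1
  rw [h1]
  exact le_add_self

theorem natCast_le_idealDepth_of_fibres (J : Ideal B) (n : ℕ)
    (h : ∀ q : PrimeSpectrum B, J ≤ q.asIdeal →
      (n : ℕ∞) ≤ idealDepth (q.asIdeal.map (algebraMap B (EGA4.FibLocRing A B q.asIdeal))) (EGA4.FibLocMod A B q.asIdeal M)) :
    (n : ℕ∞) ≤ idealDepth J M := by
  rw [idealDepth_eq_iInf]
  exact le_iInf₂ fun q hq => (h q hq).trans (le_dep_of_fibre M q.asIdeal)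

omit M in
theorem natCast_le_idealDepth_self_of_fibres [Module.Flat A B] (J : Ideal B) (n : ℕ)
    (h : ∀ q : PrimeSpectrum B, J ≤ q.asIdeal →
      (n : ℕ∞) ≤ idealDepth (q.asIdeal.map (algebraMap B (EGA4.FibLocRing A B q.asIdeal))) (EGA4.FibLocRing A B q.asIdeal)) :
    (n : ℕ∞) ≤ idealDepth J B := by
  refine natCast_le_idealDepth_of_fibres (A := A) B J n fun q hq => (h q hq).trans (le_of_eq ?_)
  let I := (q.asIdeal.comap (algebraMap A B)).map (algebraMap A (Localization.AtPrime q.asIdeal))
  let e₀ : LocalizedModule q.asIdeal.primeCompl B ≃ₗ[Localization.AtPrime q.asIdeal] Localization.AtPrime q.asIdeal :=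
    (IsLocalizedModule.iso q.asIdeal.primeCompl (Algebra.linearMap B (Localization.AtPrime q.asIdeal))).extendScalarsOfIsLocalization
      q.asIdeal.primeCompl (Localization.AtPrime q.asIdeal)
  let e₁ := Submodule.Quotient.equiv (I • ⊤) (I • ⊤ : Submodule (Localization.AtPrime q.asIdeal) (Localization.AtPrime q.asIdeal)) e₀
    (by rw [Submodule.map_smul'', Submodule.map_top, LinearEquiv.range])
  let e : EGA4.FibLocMod A B q.asIdeal B ≃ₗ[Localization.AtPrime q.asIdeal] EGA4.FibLocRing A B q.asIdeal :=
    e₁.trans (Submodule.quotEquivOfEq _ _ (by rw [smul_eq_mul, Ideal.mul_top]))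
  exact (idealDepth_congr (R := EGA4.FibLocRing A B q.asIdeal)
    (LinearEquiv.extendScalarsOfSurjective (Ideal.Quotient.mk_surjective) e)).symm

end Groth.Agent.FlatSerre
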