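import Groth.Agent.FlatSerre.Basic
import Mathlib

/-!
# Depth of a module finite over a smaller local ring
-/

universe u

open RingTheory.Sequence

namespace Groth.Agent.FlatSerre

open IsLocalRing LocCoh DepthLib

theorem depth_restrictScalars (A B : Type u) [CommRing A] [CommRing B] [IsLocalRing A]
    [IsLocalRing B] [IsNoetherianRing A] [IsNoetherianRing B] [Algebra A B] [IsLocalHom (algebraMap A B)]
    (M : Type u) [AddCommGroup M] [Module B M] [Module A M] [IsScalarTower A B M] [Module.Finite A M] :
    depth A M = depth B M := by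
  haveI : Module.Finite B M := Module.Finite.of_restrictScalars_finite A B M
  rcases subsingleton_or_nontrivial M with hM | hM
  · rw [depth_eq_top_of_subsingleton, depth_eq_top_of_subsingleton]
  have hA : maximalIdeal A • (⊤ : Submodule A M) ≠ ⊤ := maximalIdeal_smul_top_ne_top
  obtain ⟨d, hd⟩ := WithTop.ne_top_iff_exists.mp
    (fun ht => hA (idealDepth_eq_top_iff.mp ht) : depth A M ≠ ⊤)
  obtain ⟨rs, hlen, hrs, hrsI⟩ := natCast_le_depth_iff.mp hd.le
  let rs' := rs.map (algebraMap A B)
  have hrs' : IsWeaklyRegular M rs' := (isWeaklyRegular_map_algebraMap_iff B M rs).mpr hrs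
  have hml : (maximalIdeal A).map (algebraMap A B) ≤ maximalIdeal B :=
    ((local_hom_TFAE (algebraMap A B)).out 0 2 rfl rfl).mp ‹_›
  have hrsI' : ∀ r ∈ rs', r ∈ maximalIdeal B := fun r hr => by
    obtain ⟨a, ha, rfl⟩ := List.mem_map.mp hr
    exact hml (Ideal.mem_map_of_mem _ (hrsI a ha))
  have h1 := idealDepth_quot_ofList_add_length rs M hrs hrsI
  have h2 := idealDepth_quot_ofList_add_length rs' M hrs' hrsI'
  rw [hlen] at h1
  rw [List.length_map, hlen] at h2
  change depth A _ + (d : ℕ∞) = depth A M at h1
  change depth B _ + (d : ℕ∞) = depth B M at h2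
  let P : Submodule B M := Ideal.ofList rs' • ⊤
  let Q : Submodule A M := Ideal.ofList rs • ⊤
  have hPQ : Q = P.restrictScalars A := by
    show _ = (Ideal.ofList (rs.map (algebraMap A B)) • (⊤ : Submodule B M)).restrictScalars A
    rw [← Ideal.map_ofList, Ideal.smul_restrictScalars, Submodule.restrictScalars_top]
  let e : (M ⧸ Q) ≃ₗ[A] M ⧸ P :=
    Submodule.quotEquivOfEq _ _ hPQ ≪≫ₗ Submodule.Quotient.restrictScalarsEquiv A P
  have h0 : depth A (M ⧸ Q) = 0 := by
    rw [← hd] at h1
    exact ENat.add_left_injective_of_ne_top (ENat.coe_ne_top d) (h1.trans (zero_add _).symm)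
  have h0' : depth B (M ⧸ P) = 0 := by
    rw [depth_congr e, depth_eq_zero_iff] at h0
    rw [depth_eq_zero_iff]
    obtain ⟨z, hz⟩ := (isAssociatedPrime_iff.mp h0).2
    have hz0 : z ≠ 0 := fun h => (maximalIdeal.isMaximal A).ne_top (by
      rw [hz, h, eq_top_iff]; intro a _
      rw [Submodule.mem_colon_singleton, Submodule.mem_bot, smul_zero])
    let N : Submodule B (M ⧸ P) := Submodule.span B {z}
    haveI : Nontrivial N := ⟨⟨z, Submodule.mem_span_singleton_self z⟩, 0, fun h => hz0 (congrArg Subtype.val h)⟩
    obtain ⟨p, hp⟩ := associatedPrimes.nonempty B N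
    haveI := IsAssociatedPrime.isPrime hp
    have hp' : p ∈ associatedPrimes B (M ⧸ P) :=
      associatedPrimes.subset_of_injective (f := N.subtype) Subtype.val_injective hp
    have hJp : Module.annihilator B M ≤ p := (LinearMap.annihilator_le_of_surjective _ P.mkQ_surjective).trans
      (annihilator_le_of_mem_associatedPrimes hp')
    have hmp : (maximalIdeal A).map (algebraMap A B) ≤ p := by
      refine le_trans (Ideal.map_le_iff_le_comap.mpr fun a ha => ?_) (annihilator_le_of_mem_associatedPrimes hp)
      rw [hz, Submodule.mem_colon_singleton, Submodule.mem_bot] at ha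
      rw [Ideal.mem_comap, Module.mem_annihilator]
      rintro ⟨n, hn⟩
      obtain ⟨b, rfl⟩ := Submodule.mem_span_singleton.mp hn
      exact Subtype.ext (show algebraMap A B a • b • z = 0 by rw [algebraMap_smul, smul_comm, ha, smul_zero])
    let J := Module.annihilator B M
    haveI : Module.Finite A (B ⧸ J) := by
      let φ : (B ⧸ J) →ₗ[A] Module.End A M := Submodule.liftQ (J.restrictScalars A)
        (Algebra.lsmul A A M (A := B)).toLinearMap (fun b hb => by
          ext m; exact Module.mem_annihilator.mp hb m) ∘ₗ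
        (Submodule.Quotient.restrictScalarsEquiv A J).symm.toLinearMap
      refine Module.Finite.of_injective φ fun x y hxy => ?_
      obtain ⟨x, rfl⟩ := Ideal.Quotient.mk_surjective x
      obtain ⟨y, rfl⟩ := Ideal.Quotient.mk_surjective y
      rw [Ideal.Quotient.eq, Module.mem_annihilator]
      intro m
      rw [sub_smul, sub_eq_zero]
      exact LinearMap.congr_fun hxy m
    haveI : Algebra.IsIntegral A (B ⧸ J) := Algebra.IsIntegral.of_finite _ _
    haveI : (p.map (Ideal.Quotient.mk J)).IsPrime :=
      Ideal.map_isPrime_of_surjective Ideal.Quotient.mk_surjective (by rwa [Ideal.mk_ker])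
    have hc : (p.map (Ideal.Quotient.mk J)).comap (algebraMap A (B ⧸ J)) = maximalIdeal A :=
      ((maximalIdeal.isMaximal A).eq_of_le (Ideal.IsPrime.comap _).ne_top fun a ha =>
        Ideal.mem_map_of_mem _ (hmp (Ideal.mem_map_of_mem _ ha))).symm
    have hmax : (p.map (Ideal.Quotient.mk J)).IsMaximal :=
      Ideal.isMaximal_of_isIntegral_of_isMaximal_comap (R := A) _ (by rw [hc]; infer_instance)
    have hmax' : p.IsMaximal := by
      have := Ideal.comap_isMaximal_of_surjective (Ideal.Quotient.mk J) Ideal.Quotient.mk_surjective (K := p.map (Ideal.Quotient.mk J))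
      rwa [Ideal.comap_map_of_surjective' _ Ideal.Quotient.mk_surjective, Ideal.mk_ker, sup_eq_left.mpr hJp] at this
    rwa [eq_maximalIdeal hmax'] at hp'
  rw [h0', zero_add] at h2
  exact hd.symm.trans h2

end Groth.Agent.FlatSerre
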