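import Groth.Agent.FlatSerre.Basic
import Groth.Agent.DepthLib.RegularLocal
import Mathlib

/-!
# Dimension of `N ⊗ M` for a module `N` flat over the base
-/

universe u

open TensorProduct

namespace Groth.Agent.FlatSerre

open IsLocalRing LocCoh DepthLib

theorem supportDim_eq_of_surjective {R S : Type u} [CommRing R] [CommRing S] [Algebra R S] (M : Type u)
    [AddCommGroup M] [Module R M] [Module S M] [IsScalarTower R S M] [Module.Finite S M]
    (h : Function.Surjective (algebraMap R S)) :
    Module.supportDim S M = Module.supportDim R M := by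
  haveI : Module.Finite R S := Module.Finite.of_surjective (Algebra.linearMap R S) h
  haveI : Module.Finite R M := Module.Finite.trans S M
  rw [Module.supportDim_eq_ringKrullDim_quotient_annihilator, Module.supportDim_eq_ringKrullDim_quotient_annihilator]
  let f : R →+* S ⧸ Module.annihilator S M := (Ideal.Quotient.mk _).comp (algebraMap R S)
  have hk : RingHom.ker f = Module.annihilator R M := by
    ext r
    rw [RingHom.mem_ker, RingHom.comp_apply, Ideal.Quotient.eq_zero_iff_mem, Module.mem_annihilator,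
      Module.mem_annihilator]
    simp only [algebraMap_smul]
  exact (ringKrullDim_eq_of_ringEquiv ((Ideal.quotEquivOfEq hk.symm).trans
    (RingHom.quotientKerEquivOfSurjective (f := f) (Ideal.Quotient.mk_surjective.comp h)))).symm

section

variable {A B : Type u} [CommRing A] [CommRing B] [IsNoetherianRing A] [IsNoetherianRing B] [Algebra A B]
  {N : Type u} [AddCommGroup N] [Module B N] [Module A N] [IsScalarTower A B N] [Module.Finite B N] [Module.Flat A N]

/-- Going down along the support of a flat module. -/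
theorem exists_le_over_of_flat (p' : Ideal A) [p'.IsPrime] (Q : PrimeSpectrum B) (hQ : Q ∈ Module.support B N)
    (h : p' ≤ Q.asIdeal.comap (algebraMap A B)) :
    ∃ P : PrimeSpectrum B, P ∈ Module.support B N ∧ P.asIdeal ≤ Q.asIdeal ∧
      P.asIdeal.comap (algebraMap A B) = p' := by
  let I := p'.map (algebraMap A B)
  have hQ' : Q ∈ Module.support B (N ⧸ (I • ⊤ : Submodule B N)) := by
    rw [Module.support_quotient]
    exact ⟨hQ, (PrimeSpectrum.mem_zeroLocus _ _).mpr (SetLike.coe_subset_coe.mpr (Ideal.map_le_iff_le_comap.mpr h))⟩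
  obtain ⟨P, hP, hle⟩ := exists_associatedPrime_le_of_mem_support hQ'
  haveI := IsAssociatedPrime.isPrime hP
  obtain ⟨z, hz⟩ := (isAssociatedPrime_iff.mp hP).2
  have hzI : ∀ b ∈ I, b • z = 0 := fun b hb => by
    obtain ⟨z, rfl⟩ := Submodule.Quotient.mk_surjective _ z
    rw [← Submodule.Quotient.mk_smul, Submodule.Quotient.mk_eq_zero]
    exact Submodule.smul_mem_smul hb trivial
  have hIP : I ≤ P := fun b hb => by
    rw [hz, Submodule.mem_colon_singleton, Submodule.mem_bot]; exact hzI b hb
  refine ⟨⟨P, inferInstance⟩,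
    Module.support_subset_of_surjective _ (Submodule.mkQ_surjective (I • ⊤ : Submodule B N))
      (mem_support_of_mem_associatedPrimes hP), hle,
    le_antisymm (fun a ha => ?_) (Ideal.map_le_iff_le_comap.mp hIP)⟩
  by_contra hap
  change algebraMap A B a ∈ P at ha
  rw [hz, Submodule.mem_colon_singleton, Submodule.mem_bot] at ha
  have hz0 : z ≠ 0 := fun e => (IsAssociatedPrime.isPrime hP).ne_top (by
    rw [eq_top_iff]; intro b _; rw [hz, Submodule.mem_colon_singleton, Submodule.mem_bot, e, smul_zero])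
  let e := (FlatDepthFormula.tensorQuot (A := A) (B := B) N p').symm
  refine hz0 (e.injective ?_)
  rw [map_zero]
  have hreg : IsSMulRegular (A ⧸ p') a := fun x y hxy => by
    obtain ⟨x, rfl⟩ := Ideal.Quotient.mk_surjective x
    obtain ⟨y, rfl⟩ := Ideal.Quotient.mk_surjective y
    simp only [Algebra.smul_def, Ideal.Quotient.algebraMap_eq] at hxy
    exact mul_left_cancel₀ (mt Ideal.Quotient.eq_zero_iff_mem.mp hap) hxy
  refine (hreg.lTensor N).right_eq_zero_of_smul ?_
  rw [← algebraMap_smul B a (e z), ← map_smul, ha, map_zero]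

variable (N)

theorem support_tensor_eq (M : Type u) [AddCommGroup M] [Module A M] [Module.Finite A M]
    [Module.Finite B (N ⊗[A] M)] :
    Module.support B (N ⊗[A] M) = PrimeSpectrum.zeroLocus
      (Module.annihilator B N ⊔ (Module.annihilator A M).map (algebraMap A B) : Ideal B) := by
  refine Set.Subset.antisymm (fun Q hQ => ?_) (fun Q hQ => ?_)
  · rw [PrimeSpectrum.mem_zeroLocus, SetLike.coe_subset_coe]
    refine le_trans ?_ (Module.annihilator_le_of_mem_support hQ)
    refine sup_le (fun b hb => ?_) (Ideal.map_le_iff_le_comap.mpr fun a ha => ?_)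
    · rw [Module.mem_annihilator] at hb ⊢
      intro z
      induction z using TensorProduct.induction_on with
      | zero => exact smul_zero _
      | add x y hx hy => rw [smul_add, hx, hy, add_zero]
      | tmul n m => rw [smul_tmul', hb, zero_tmul]
    · rw [Ideal.mem_comap, Module.mem_annihilator]
      rw [Module.mem_annihilator] at ha
      intro z
      induction z using TensorProduct.induction_on with
      | zero => exact smul_zero _
      | add x y hx hy => rw [smul_add, hx, hy, add_zero]
      | tmul n m => rw [algebraMap_smul, ← tmul_smul, ha, tmul_zero]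
  · rw [PrimeSpectrum.mem_zeroLocus, SetLike.coe_subset_coe, sup_le_iff, Ideal.map_le_iff_le_comap] at hQ
    have hN : Q ∈ Module.support B N := Module.mem_support_iff_of_finite.mpr hQ.1
    have hM : (⟨Q.asIdeal.comap (algebraMap A B), inferInstance⟩ : PrimeSpectrum A) ∈ Module.support A M :=
      Module.mem_support_iff_of_finite.mpr hQ.2
    obtain ⟨p₀, hp₀, hle⟩ := exists_associatedPrime_le_of_mem_support hM
    obtain ⟨x, hx⟩ := (isAssociatedPrime_iff.mp hp₀).2
    let φ : (A ⧸ p₀) →ₗ[A] M := Submodule.liftQ _ (LinearMap.toSpanSingleton A M x) (fun a ha => by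
      rw [hx, Submodule.mem_colon_singleton, Submodule.mem_bot] at ha
      exact ha)
    have hφ : Function.Injective φ := by
      refine LinearMap.ker_eq_bot.mp (Submodule.ker_liftQ_eq_bot _ _ _ fun a ha => ?_)
      rw [hx, Submodule.mem_colon_singleton, Submodule.mem_bot]
      exact ha
    refine Module.support_subset_of_injective (AlgebraTensorModule.map (LinearMap.id : N →ₗ[B] N) φ)
      (Module.Flat.lTensor_preserves_injective_linearMap φ hφ) ?_
    rw [(FlatDepthFormula.tensorQuot (A := A) (B := B) N p₀).support_eq, Module.support_quotient]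
    exact ⟨hN, (PrimeSpectrum.mem_zeroLocus _ _).mpr (SetLike.coe_subset_coe.mpr (Ideal.map_le_iff_le_comap.mpr hle))⟩

end

variable {A B : Type u} [CommRing A] [CommRing B] [IsNoetherianRing A] [IsNoetherianRing B] [Algebra A B]
  [IsLocalRing A] [IsLocalRing B] [IsLocalHom (algebraMap A B)]

theorem supportDim_tensor (N : Type u) [AddCommGroup N] [Module B N] [Module A N] [IsScalarTower A B N]
    [Module.Finite B N] [Module.Flat A N] [Nontrivial N]
    (M : Type u) [AddCommGroup M] [Module A M] [Module.Finite A M] [Nontrivial M] :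
    Module.supportDim B (N ⊗[A] M) = Module.supportDim A M +
      Module.supportDim B (N ⧸ ((maximalIdeal A).map (algebraMap A B) • (⊤ : Submodule B N))) := by
  haveI := FlatDepthFormula.finite_tensor (A := A) (B := B) (M := N) M
  let I := Module.annihilator A M
  let J : Ideal B := Module.annihilator B N ⊔ I.map (algebraMap A B)
  have hI : I ≤ maximalIdeal A := le_maximalIdeal fun h =>
    not_subsingleton M (Module.annihilator_eq_top_iff.mp h)
  have hN : Module.annihilator B N ≤ maximalIdeal B := le_maximalIdeal fun h =>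
    not_subsingleton N (Module.annihilator_eq_top_iff.mp h)
  have hml : (maximalIdeal A).map (algebraMap A B) ≤ maximalIdeal B := FlatDepthFormula.map_maximalIdeal_le
  have hJ : J ≤ maximalIdeal B := sup_le hN ((Ideal.map_mono hI).trans hml)
  haveI : Nontrivial (A ⧸ I) := Ideal.Quotient.nontrivial_iff.mpr (ne_top_of_le_ne_top (maximalIdeal.isMaximal A).ne_top hI)
  haveI : Nontrivial (B ⧸ J) := Ideal.Quotient.nontrivial_iff.mpr (ne_top_of_le_ne_top (maximalIdeal.isMaximal B).ne_top hJ)
  haveI : IsLocalRing (A ⧸ I) := IsLocalRing.of_surjective' (Ideal.Quotient.mk I) Ideal.Quotient.mk_surjective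
  haveI : IsLocalRing (B ⧸ J) := IsLocalRing.of_surjective' (Ideal.Quotient.mk J) Ideal.Quotient.mk_surjective
  let φ : A ⧸ I →+* B ⧸ J := Ideal.quotientMap J (algebraMap A B) (Ideal.map_le_iff_le_comap.mp le_sup_right)
  letI : Algebra (A ⧸ I) (B ⧸ J) := φ.toAlgebra
  have hφ : φ.comp (Ideal.Quotient.mk I) = (Ideal.Quotient.mk J).comp (algebraMap A B) :=
    RingHom.ext fun x => rfl
  have hmB : (maximalIdeal B).map (Ideal.Quotient.mk J) = maximalIdeal (B ⧸ J) :=
    map_maximalIdeal_of_surjective _ Ideal.Quotient.mk_surjective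
  have hmA : (maximalIdeal A).map (Ideal.Quotient.mk I) = maximalIdeal (A ⧸ I) :=
    map_maximalIdeal_of_surjective _ Ideal.Quotient.mk_surjective
  have hm : (maximalIdeal (A ⧸ I)).map φ = ((maximalIdeal A).map (algebraMap A B)).map (Ideal.Quotient.mk J) := by
    rw [← hmA, Ideal.map_map, Ideal.map_map, hφ]
  haveI : IsLocalHom (algebraMap (A ⧸ I) (B ⧸ J)) := by
    refine ((IsLocalRing.local_hom_TFAE _).out 2 0 rfl rfl).mp ?_
    show (maximalIdeal (A ⧸ I)).map φ ≤ _
    rw [hm, ← hmB]
    exact Ideal.map_mono hml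
  haveI : Algebra.HasGoingDown (A ⧸ I) (B ⧸ J) := by
    refine ⟨fun {p'} _ Q _ h => ?_⟩
    let Q₀ : PrimeSpectrum B := ⟨Q.comap (Ideal.Quotient.mk J), inferInstance⟩
    have hJQ : J ≤ Q₀.asIdeal := fun b hb => by
      show Ideal.Quotient.mk J b ∈ Q
      rw [Ideal.Quotient.eq_zero_iff_mem.mpr hb]; exact zero_mem _
    have hle : p'.comap (Ideal.Quotient.mk I) ≤ Q₀.asIdeal.comap (algebraMap A B) := by
      rw [Ideal.comap_comap, ← hφ, ← Ideal.comap_comap]
      exact Ideal.comap_mono h.le
    obtain ⟨P, hPN, hPQ, hP⟩ := exists_le_over_of_flat (N := N) (p'.comap (Ideal.Quotient.mk I)) Q₀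
      (Module.mem_support_iff_of_finite.mpr (le_sup_left.trans hJQ)) hle
    have hJP : J ≤ P.asIdeal := sup_le (Module.mem_support_iff_of_finite.mp hPN)
      (Ideal.map_le_iff_le_comap.mpr (by
        rw [hP]; intro a ha; show Ideal.Quotient.mk I a ∈ p'
        rw [Ideal.Quotient.eq_zero_iff_mem.mpr ha]; exact zero_mem _))
    have hc : (P.asIdeal.map (Ideal.Quotient.mk J)).comap (Ideal.Quotient.mk J) = P.asIdeal := by
      rw [Ideal.comap_map_of_surjective' _ Ideal.Quotient.mk_surjective, Ideal.mk_ker, sup_eq_left.mpr hJP]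
    refine ⟨P.asIdeal.map (Ideal.Quotient.mk J), Ideal.map_le_iff_le_comap.mpr hPQ,
      Ideal.map_isPrime_of_surjective Ideal.Quotient.mk_surjective (by rwa [Ideal.mk_ker]), ⟨?_⟩⟩
    apply Ideal.comap_injective_of_surjective _ Ideal.Quotient.mk_surjective
    show p'.comap (Ideal.Quotient.mk I) = ((P.asIdeal.map (Ideal.Quotient.mk J)).comap φ).comap (Ideal.Quotient.mk I)
    rw [Ideal.comap_comap, hφ, ← Ideal.comap_comap, hc, hP]
  haveI : (maximalIdeal (B ⧸ J)).LiesOver (maximalIdeal (A ⧸ I)) :=
    ⟨(((local_hom_TFAE (algebraMap (A ⧸ I) (B ⧸ J))).out 0 4 rfl rfl).mp ‹_›).symm⟩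
  have h := Ideal.height_eq_height_add_of_liesOver_of_hasGoingDown (maximalIdeal (A ⧸ I)) (maximalIdeal (B ⧸ J))
  let K := (maximalIdeal (A ⧸ I)).map (algebraMap (A ⧸ I) (B ⧸ J))
  haveI : Nontrivial ((B ⧸ J) ⧸ K) := Ideal.Quotient.nontrivial_iff.mpr
    (ne_top_of_le_ne_top (maximalIdeal.isMaximal _).ne_top (FlatDepthFormula.map_maximalIdeal_le))
  haveI : IsLocalRing ((B ⧸ J) ⧸ K) := IsLocalRing.of_surjective' (Ideal.Quotient.mk K) Ideal.Quotient.mk_surjective
  rw [map_maximalIdeal_of_surjective _ Ideal.Quotient.mk_surjective] at h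
  have h' : ringKrullDim (B ⧸ J) = ringKrullDim (A ⧸ I) + ringKrullDim ((B ⧸ J) ⧸ K) := by
    rw [← maximalIdeal_height_eq_ringKrullDim, ← maximalIdeal_height_eq_ringKrullDim (R := A ⧸ I),
      ← maximalIdeal_height_eq_ringKrullDim (R := (B ⧸ J) ⧸ K), h]
    rfl
  have e1 : Module.supportDim B (N ⊗[A] M) = ringKrullDim (B ⧸ J) := by
    rw [Module.supportDim, support_tensor_eq N M, ringKrullDim_quotient]
  have e2 : Module.supportDim B (N ⧸ ((maximalIdeal A).map (algebraMap A B) • (⊤ : Submodule B N))) =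
      ringKrullDim ((B ⧸ J) ⧸ K) := by
    rw [Module.supportDim, Module.support_quotient, Module.support_eq_zeroLocus, ← PrimeSpectrum.zeroLocus_sup,
      ← ringKrullDim_quotient]
    refine (ringKrullDim_eq_of_ringEquiv ((Ideal.quotEquivOfEq hm).trans ((DoubleQuot.quotQuotEquivQuotSup J _).trans
      (Ideal.quotEquivOfEq ?_)))).symm
    show (Module.annihilator B N ⊔ I.map (algebraMap A B)) ⊔ _ = _
    rw [sup_assoc, sup_eq_right.mpr (Ideal.map_mono (f := algebraMap A B) hI)]
  rw [e1, e2, h', Module.supportDim_eq_ringKrullDim_quotient_annihilator]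

theorem supportDim_tensor_le (N : Type u) [AddCommGroup N] [Module B N] [Module A N] [IsScalarTower A B N]
    [Module.Finite B N] [Nontrivial N] (M : Type u) [AddCommGroup M] [Module A M] [Module.Finite A M] [Nontrivial M] :
    Module.supportDim B (N ⊗[A] M) ≤ Module.supportDim A M +
      Module.supportDim B (N ⧸ ((maximalIdeal A).map (algebraMap A B) • (⊤ : Submodule B N))) := by
  let I := Module.annihilator A M
  let J : Ideal B := Module.annihilator B N ⊔ I.map (algebraMap A B)
  have hI : I ≤ maximalIdeal A := le_maximalIdeal fun h =>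
    not_subsingleton M (Module.annihilator_eq_top_iff.mp h)
  have hN : Module.annihilator B N ≤ maximalIdeal B := le_maximalIdeal fun h =>
    not_subsingleton N (Module.annihilator_eq_top_iff.mp h)
  have hml : (maximalIdeal A).map (algebraMap A B) ≤ maximalIdeal B := FlatDepthFormula.map_maximalIdeal_le
  have hJ : J ≤ maximalIdeal B := sup_le hN ((Ideal.map_mono hI).trans hml)
  haveI : Nontrivial (A ⧸ I) := Ideal.Quotient.nontrivial_iff.mpr (ne_top_of_le_ne_top (maximalIdeal.isMaximal A).ne_top hI)
  haveI : Nontrivial (B ⧸ J) := Ideal.Quotient.nontrivial_iff.mpr (ne_top_of_le_ne_top (maximalIdeal.isMaximal B).ne_top hJ)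
  haveI : IsLocalRing (A ⧸ I) := IsLocalRing.of_surjective' (Ideal.Quotient.mk I) Ideal.Quotient.mk_surjective
  haveI : IsLocalRing (B ⧸ J) := IsLocalRing.of_surjective' (Ideal.Quotient.mk J) Ideal.Quotient.mk_surjective
  let φ : A ⧸ I →+* B ⧸ J := Ideal.quotientMap J (algebraMap A B) (Ideal.map_le_iff_le_comap.mp le_sup_right)
  letI : Algebra (A ⧸ I) (B ⧸ J) := φ.toAlgebra
  have hφ : φ.comp (Ideal.Quotient.mk I) = (Ideal.Quotient.mk J).comp (algebraMap A B) :=
    RingHom.ext fun x => rfl
  have hmB : (maximalIdeal B).map (Ideal.Quotient.mk J) = maximalIdeal (B ⧸ J) :=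
    map_maximalIdeal_of_surjective _ Ideal.Quotient.mk_surjective
  have hmA : (maximalIdeal A).map (Ideal.Quotient.mk I) = maximalIdeal (A ⧸ I) :=
    map_maximalIdeal_of_surjective _ Ideal.Quotient.mk_surjective
  have hm : (maximalIdeal (A ⧸ I)).map φ = ((maximalIdeal A).map (algebraMap A B)).map (Ideal.Quotient.mk J) := by
    rw [← hmA, Ideal.map_map, Ideal.map_map, hφ]
  haveI : IsLocalHom (algebraMap (A ⧸ I) (B ⧸ J)) := by
    refine ((IsLocalRing.local_hom_TFAE _).out 2 0 rfl rfl).mp ?_
    show (maximalIdeal (A ⧸ I)).map φ ≤ _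
    rw [hm, ← hmB]
    exact Ideal.map_mono hml
  haveI : (maximalIdeal (B ⧸ J)).LiesOver (maximalIdeal (A ⧸ I)) :=
    ⟨(((local_hom_TFAE (algebraMap (A ⧸ I) (B ⧸ J))).out 0 4 rfl rfl).mp ‹_›).symm⟩
  have h := Ideal.height_le_height_add_of_liesOver (maximalIdeal (A ⧸ I)) (maximalIdeal (B ⧸ J))
  let K := (maximalIdeal (A ⧸ I)).map (algebraMap (A ⧸ I) (B ⧸ J))
  haveI : Nontrivial ((B ⧸ J) ⧸ K) := Ideal.Quotient.nontrivial_iff.mpr
    (ne_top_of_le_ne_top (maximalIdeal.isMaximal _).ne_top (FlatDepthFormula.map_maximalIdeal_le))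
  haveI : IsLocalRing ((B ⧸ J) ⧸ K) := IsLocalRing.of_surjective' (Ideal.Quotient.mk K) Ideal.Quotient.mk_surjective
  rw [map_maximalIdeal_of_surjective _ Ideal.Quotient.mk_surjective] at h
  have h' : ringKrullDim (B ⧸ J) ≤ ringKrullDim (A ⧸ I) + ringKrullDim ((B ⧸ J) ⧸ K) := by
    rw [← maximalIdeal_height_eq_ringKrullDim, ← maximalIdeal_height_eq_ringKrullDim (R := A ⧸ I),
      ← maximalIdeal_height_eq_ringKrullDim (R := (B ⧸ J) ⧸ K), ← WithBot.coe_add]
    exact WithBot.coe_le_coe.mpr h
  have e1 : Module.supportDim B (N ⊗[A] M) ≤ ringKrullDim (B ⧸ J) := by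
    rw [ringKrullDim_quotient, Module.supportDim]
    refine Order.krullDim_le_of_strictMono (fun a => ⟨a.1, ?_⟩) (fun _ _ hlt => hlt)
    rw [PrimeSpectrum.mem_zeroLocus, SetLike.coe_subset_coe]
    refine le_trans ?_ (Module.annihilator_le_of_mem_support a.2)
    refine sup_le (fun b hb => ?_) (Ideal.map_le_iff_le_comap.mpr fun x hx => ?_)
    · rw [Module.mem_annihilator] at hb ⊢
      intro z
      induction z using TensorProduct.induction_on with
      | zero => exact smul_zero _
      | add x y hx hy => rw [smul_add, hx, hy, add_zero]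
      | tmul n m => rw [smul_tmul', hb, zero_tmul]
    · rw [Ideal.mem_comap, Module.mem_annihilator]
      have hx' := Module.mem_annihilator.mp hx
      intro z
      induction z using TensorProduct.induction_on with
      | zero => exact smul_zero _
      | add x y hx hy => rw [smul_add, hx, hy, add_zero]
      | tmul n m => rw [algebraMap_smul, ← tmul_smul, hx', tmul_zero]
  have e2 : Module.supportDim B (N ⧸ ((maximalIdeal A).map (algebraMap A B) • (⊤ : Submodule B N))) =
      ringKrullDim ((B ⧸ J) ⧸ K) := by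
    rw [Module.supportDim, Module.support_quotient, Module.support_eq_zeroLocus, ← PrimeSpectrum.zeroLocus_sup,
      ← ringKrullDim_quotient]
    refine (ringKrullDim_eq_of_ringEquiv ((Ideal.quotEquivOfEq hm).trans ((DoubleQuot.quotQuotEquivQuotSup J _).trans
      (Ideal.quotEquivOfEq ?_)))).symm
    show (Module.annihilator B N ⊔ I.map (algebraMap A B)) ⊔ _ = _
    rw [sup_assoc, sup_eq_right.mpr (Ideal.map_mono (f := algebraMap A B) hI)]
  rw [e2, Module.supportDim_eq_ringKrullDim_quotient_annihilator A M]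
  exact e1.trans h'

end Groth.Agent.FlatSerre
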