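import Groth.Agent.FlatSerre.Basic
import Groth.Prelude.Def_FlatCA
import Mathlib

/-!
# Flatness from flatness off a closed set and positive depth of the closed fibre
-/

universe u

open TensorProduct RingTheory.Sequence

namespace Groth.Agent.FlatSerre

open IsLocalRing LocCoh DepthLib

variable {A B : Type u} [CommRing A] [CommRing B] [Algebra A B] {M : Type u} [AddCommGroup M] [Module B M]
  [Module A M] [IsScalarTower A B M]

/-- `S⁻¹(M ⊗ X) = S⁻¹M ⊗ X`. -/
noncomputable def locTensor (S : Submonoid B) (X : Type u) [AddCommGroup X] [Module A X]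
    [IsScalarTower A (Localization S) (LocalizedModule S M)] :
    LocalizedModule S (M ⊗[A] X) ≃ₗ[Localization S] (LocalizedModule S M) ⊗[A] X :=
  LocalizedModule.equivTensorProduct S (M ⊗[A] X) ≪≫ₗ
    (AlgebraTensorModule.assoc A B (Localization S) (Localization S) M X).symm ≪≫ₗ
    AlgebraTensorModule.congr (LocalizedModule.equivTensorProduct S M).symm (LinearEquiv.refl A X)

theorem locTensor_mk (S : Submonoid B) (X : Type u) [AddCommGroup X] [Module A X]
    [IsScalarTower A (Localization S) (LocalizedModule S M)] (m : M) (x : X) :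
    locTensor S X (LocalizedModule.mk (m ⊗ₜ[A] x) 1) = LocalizedModule.mk m 1 ⊗ₜ[A] x := by
  simp [locTensor, Localization.mk_one]

/-- An element of the kernel of `M ⊗ g` is killed by a power of every element of `J`. -/
theorem exists_pow_smul_eq_zero {J : Ideal B} (hU : ∀ q : PrimeSpectrum B, ¬ J ≤ q.asIdeal → FlatCA.FlatAt A q.asIdeal M)
    {f : B} (hf : f ∈ J) {X Y : Type u} [AddCommGroup X] [Module A X] [AddCommGroup Y] [Module A Y] (g : X →ₗ[A] Y)
    (hg : Function.Injective g) (z : M ⊗[A] X)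
    (hz : AlgebraTensorModule.map (LinearMap.id : M →ₗ[B] M) g z = 0) : ∃ n : ℕ, f ^ n • z = 0 := by
  by_contra hne
  let ann : Ideal B := (⊥ : Submodule B (M ⊗[A] X)).colon {z}
  have hdis : Disjoint (ann : Set B) (Submonoid.powers f : Set B) := by
    rw [Set.disjoint_left]
    rintro b hb ⟨n, rfl⟩
    refine hne ⟨n, ?_⟩
    exact (Submodule.mem_bot B).mp (Submodule.mem_colon_singleton.mp hb)
  obtain ⟨q, hq, hle, hd⟩ := Ideal.exists_le_prime_disjoint ann _ hdis
  have hJ : ¬ J ≤ q := fun h => Set.disjoint_left.mp hd (h hf) (Submonoid.mem_powers f)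
  haveI := hq
  haveI hflat : Module.Flat A (LocalizedModule q.primeCompl M) := hU ⟨q, hq⟩ hJ
  let BQ := Localization.AtPrime q
  let MQ := LocalizedModule q.primeCompl M
  haveI : IsScalarTower A BQ MQ := .of_algebraMap_smul fun r x => by
    rw [IsScalarTower.algebraMap_apply A B BQ, algebraMap_smul, algebraMap_smul]
  let e : ∀ (X : Type u) [AddCommGroup X] [Module A X], LocalizedModule q.primeCompl (M ⊗[A] X) ≃ₗ[BQ] MQ ⊗[A] X :=
    fun X _ _ => locTensor (A := A) (M := M) q.primeCompl X
  let gM := AlgebraTensorModule.map (LinearMap.id : M →ₗ[B] M) g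
  have nat : ∀ w : M ⊗[A] X, g.lTensor MQ (e X (LocalizedModule.mk w 1)) = e Y (LocalizedModule.mk (gM w) 1) := by
    intro w
    induction w using TensorProduct.induction_on with
    | zero => simp only [map_zero, LocalizedModule.zero_mk]
    | add a b ha hb =>
      have hadd : ∀ {Z : Type u} [AddCommGroup Z] [Module B Z] (a b : Z),
          (LocalizedModule.mk (a + b) (1 : q.primeCompl)) = LocalizedModule.mk a 1 + LocalizedModule.mk b 1 :=
        fun a b => map_add (LocalizedModule.mkLinearMap q.primeCompl _) a b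
      simp only [map_add, hadd, ha, hb]
    | tmul m x =>
      simp only [gM, e, AlgebraTensorModule.map_tmul, LinearMap.id_apply]
      erw [locTensor_mk, locTensor_mk]
      rfl
  have h0 : e X (LocalizedModule.mk z 1) = 0 :=
    Module.Flat.lTensor_preserves_injective_linearMap g hg (by
      rw [nat, hz, LocalizedModule.zero_mk, map_zero, map_zero])
  have h1 : (LocalizedModule.mk z 1 : LocalizedModule q.primeCompl (M ⊗[A] X)) = 0 :=
    (e X).injective (h0.trans (map_zero _).symm)
  rw [← LocalizedModule.zero_mk (1 : q.primeCompl), LocalizedModule.mk_eq] at h1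
  obtain ⟨s, hs⟩ := h1
  refine s.2 (hle ?_)
  refine Submodule.mem_colon_singleton.mpr ((Submodule.mem_bot B).mpr ?_)
  simpa [Submonoid.smul_def] using hs

variable [IsLocalRing A] [IsNoetherianRing A]

local notation "𝔪" => IsLocalRing.maximalIdeal A

theorem isSMulRegular_of_offClosed_of_pow {J : Ideal B}
    (hU : ∀ q : PrimeSpectrum B, ¬ J ≤ q.asIdeal → FlatCA.FlatAt A q.asIdeal M) {f : B} (hfJ : f ∈ J)
    (hf : IsSMulRegular (M ⊗[A] (A ⧸ 𝔪)) f) (n : ℕ) (X : Type u) [AddCommGroup X] [Module A X] [Module.Finite A X]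
    (hX : ∀ a ∈ 𝔪 ^ n, ∀ x : X, a • x = 0) : IsSMulRegular (M ⊗[A] X) f := by
  suffices key : (∀ a ∈ 𝔪 ^ n, ∀ x : X, a • x = 0) → IsSMulRegular (M ⊗[A] X) f from key hX
  clear hX
  induction ‹Module.Finite A X› using IsNoetherianRing.induction_on_isQuotientEquivQuotientPrime with
  | subsingleton N => intro _; exact fun a b _ => Subsingleton.elim a b
  | quotient N p e =>
    intro hN
    have hp : p.asIdeal = 𝔪 := by
      refine le_antisymm (IsLocalRing.le_maximalIdeal p.2.ne_top) ?_
      refine Ideal.IsPrime.le_of_pow_le (n := n) fun a ha => ?_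
      have h := congrArg e (hN a ha (e.symm (Ideal.Quotient.mk _ 1)))
      rw [map_smul, e.apply_symm_apply, map_zero, map_one, Algebra.smul_def, mul_one] at h
      exact Ideal.Quotient.eq_zero_iff_mem.mp h
    exact ((AlgebraTensorModule.congr (LinearEquiv.refl B M)
      (e ≪≫ₗ Submodule.quotEquivOfEq _ _ hp)).isSMulRegular_congr f).mpr hf
  | exact N₁ N₂ N₃ g h hg hh hgh h₁ h₃ =>
    intro hN
    have r₁ := h₁ fun a ha x => hg (by rw [map_smul, hN a ha, map_zero])
    have r₃ := h₃ fun a ha x => by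
      obtain ⟨y, rfl⟩ := hh x
      rw [← map_smul, hN a ha, map_zero]
    refine isSMulRegular_of_range_eq_ker (f := AlgebraTensorModule.map (LinearMap.id : M →ₗ[B] M) g)
      (g := AlgebraTensorModule.map (LinearMap.id : M →ₗ[B] M) h) ?_ ?_ r₁ r₃
    · refine (injective_iff_map_eq_zero _).mpr fun z hz => ?_
      obtain ⟨m, hm⟩ := exists_pow_smul_eq_zero hU hfJ g hg z hz
      exact (r₁.pow m).right_eq_zero_of_smul hm
    · refine Submodule.ext fun z => ?_
      exact ((lTensor_exact M hgh hh) z).symm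

variable [IsLocalRing B] [IsNoetherianRing B] [IsLocalHom (algebraMap A B)] [Module.Finite B M]

theorem isSMulRegular_of_offClosed {J : Ideal B}
    (hU : ∀ q : PrimeSpectrum B, ¬ J ≤ q.asIdeal → FlatCA.FlatAt A q.asIdeal M) {f : B} (hfJ : f ∈ J)
    (hf : IsSMulRegular (M ⊗[A] (A ⧸ 𝔪)) f) (X : Type u) [AddCommGroup X] [Module A X] [Module.Finite A X] :
    IsSMulRegular (M ⊗[A] X) f := by
  haveI := FlatDepthFormula.finite_tensor (A := A) (B := B) (M := M) X
  rw [isSMulRegular_iff_right_eq_zero_of_smul]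
  intro z hz
  have hbot := Ideal.iInf_pow_smul_eq_bot_of_le_jacobson (M := M ⊗[A] X) ((𝔪).map (algebraMap A B))
    ((FlatDepthFormula.map_maximalIdeal_le (A := A) (B := B)).trans (IsLocalRing.maximalIdeal_le_jacobson _))
  rw [← Submodule.mem_bot B, ← hbot, Submodule.mem_iInf]
  intro n
  let P : Submodule A X := (𝔪) ^ n • (⊤ : Submodule A X)
  let q : M ⊗[A] X →ₗ[B] M ⊗[A] (X ⧸ P) := AlgebraTensorModule.map (LinearMap.id : M →ₗ[B] M) P.mkQ
  have hreg : IsSMulRegular (M ⊗[A] (X ⧸ P)) f := isSMulRegular_of_offClosed_of_pow hU hfJ hf n (X ⧸ P) fun a ha x => by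
    obtain ⟨x, rfl⟩ := Submodule.Quotient.mk_surjective _ x
    rw [← Submodule.Quotient.mk_smul, Submodule.Quotient.mk_eq_zero]
    exact Submodule.smul_mem_smul ha trivial
  have hqz : q z = 0 := hreg.right_eq_zero_of_smul (by rw [← map_smul, hz, map_zero])
  obtain ⟨w, rfl⟩ := ((lTensor_exact M (LinearMap.exact_subtype_mkQ P) P.mkQ_surjective) z).mp hqz
  clear hqz hz
  induction w using TensorProduct.induction_on with
  | zero => simp
  | add a b ha hb => rw [map_add]; exact add_mem ha hb
  | tmul m x =>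
    obtain ⟨x, hx⟩ := x
    rw [LinearMap.lTensor_tmul]
    show m ⊗ₜ[A] x ∈ _
    induction hx using Submodule.smul_induction_on' with
    | smul a ha y _ =>
      rw [tmul_smul, ← algebraMap_smul B a, ← Ideal.map_pow]
      exact Submodule.smul_mem_smul (Ideal.mem_map_of_mem _ ha) trivial
    | add a _ b _ ha hb => rw [tmul_add]; exact add_mem ha hb

/-- Flatness off `V(J)` and positive depth of the closed fibre along `J` give flatness. -/
theorem flat_of_offClosed {J : Ideal B}
    (hU : ∀ q : PrimeSpectrum B, ¬ J ≤ q.asIdeal → FlatCA.FlatAt A q.asIdeal M)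
    (h1 : 1 ≤ idealDepth J (M ⧸ ((𝔪).map (algebraMap A B) • (⊤ : Submodule B M)))) : Module.Flat A M := by
  obtain ⟨f, hfJ, hf⟩ := one_le_idealDepth_iff.mp h1
  have hf' : IsSMulRegular (M ⊗[A] (A ⧸ 𝔪)) f := ((FlatDepthFormula.tensorQuot M 𝔪).isSMulRegular_congr f).mpr hf
  rw [Module.Flat.iff_lTensor_injective']
  intro I
  refine (injective_iff_map_eq_zero _).mpr fun z hz => ?_
  obtain ⟨m, hm⟩ := exists_pow_smul_eq_zero hU hfJ I.subtype Subtype.val_injective z hz
  exact ((isSMulRegular_of_offClosed hU hfJ hf' I).pow m).right_eq_zero_of_smul hm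

/-- Depth along `J` of `M ⊗ X` is at least that of the closed fibre. -/
theorem natCast_le_idealDepth_quot_pow [Module.Flat A M] {J : Ideal B} (d : ℕ)
    (h : (d : ℕ∞) ≤ idealDepth J (M ⧸ ((𝔪).map (algebraMap A B) • (⊤ : Submodule B M)))) (I : Ideal A) :
    (d : ℕ∞) ≤ idealDepth J (M ⧸ (I.map (algebraMap A B) • (⊤ : Submodule B M))) := by
  obtain ⟨fs, hlen, hfs, hfsJ⟩ := natCast_le_idealDepth_iff.mp h
  have hfs' : IsWeaklyRegular (M ⊗[A] (A ⧸ 𝔪)) fs := (FlatDepthFormula.isWeaklyRegular_fibre_iff M fs).mpr hfs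
  have := (FlatDepthFormula.main fs hfs').2 (A ⧸ I)
  rw [← hlen]
  exact le_idealDepth_of_isWeaklyRegular fs (((FlatDepthFormula.tensorQuot M I).isWeaklyRegular_congr fs).mp this) hfsJ

end Groth.Agent.FlatSerre
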