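import Groth.Agent.FlatSerre.OffClosed
import Groth.Agent.FlatSerre.Localize
import Groth.Agent.FlatDescent.Local
import Groth.Agent.DepthLib.Ext
import Groth.Prelude.Def_FlatCA
import Groth.Prelude.Def_EGA4b

/-!
# Short exact sequences of modules flat off a closed set
-/

universe u

open TensorProduct

namespace Groth.Agent.FlatSerre

open IsLocalRing LocCoh DepthLib

variable {A B : Type u} [CommRing A] [CommRing B] [Algebra A B]

/-- `M ⊗ I → M`. -/
noncomputable def evI (I : Ideal A) (M : Type u) [AddCommGroup M] [Module B M] [Module A M] [IsScalarTower A B M] :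
    M ⊗[A] I →ₗ[B] M :=
  (AlgebraTensorModule.rid A B M).toLinearMap ∘ₗ AlgebraTensorModule.map (LinearMap.id : M →ₗ[B] M) I.subtype

section

variable (I : Ideal A) {M N : Type u} [AddCommGroup M] [Module B M] [Module A M] [IsScalarTower A B M]
  [AddCommGroup N] [Module B N] [Module A N] [IsScalarTower A B N]

theorem evI_tmul (m : M) (a : I) : evI (B := B) I M (m ⊗ₜ[A] a) = (a : A) • m := by simp [evI]

theorem range_evI : LinearMap.range (evI (B := B) I M) = I.map (algebraMap A B) • (⊤ : Submodule B M) := by
  refine le_antisymm ?_ ?_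
  · rintro _ ⟨z, rfl⟩
    induction z using TensorProduct.induction_on with
    | zero => rw [map_zero]; exact zero_mem _
    | add a b ha hb => rw [map_add]; exact add_mem ha hb
    | tmul m a =>
      rw [evI_tmul, ← algebraMap_smul B (a : A) m]
      exact Submodule.smul_mem_smul (Ideal.mem_map_of_mem _ a.2) Submodule.mem_top
  · rw [Ideal.map, Submodule.span_smul_eq, Submodule.set_smul_le_iff]
    rintro _ m ⟨a, ha, rfl⟩ -
    exact ⟨m ⊗ₜ[A] (⟨a, ha⟩ : I), by rw [evI_tmul, algebraMap_smul]⟩

theorem evI_map (f : M →ₗ[B] N) (z : M ⊗[A] I) :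
    evI (B := B) I N (AlgebraTensorModule.map f (LinearMap.id : I →ₗ[A] I) z) = f (evI (B := B) I M z) := by
  induction z using TensorProduct.induction_on with
  | zero => simp
  | add a b ha hb => simp [map_add, ha, hb]
  | tmul m a =>
    rw [AlgebraTensorModule.map_tmul, evI_tmul, evI_tmul, LinearMap.id_apply, f.map_smul_of_tower]

theorem evI_injective [Module.Flat A M] : Function.Injective (evI (B := B) I M) :=
  (AlgebraTensorModule.rid A B M).injective.comp
    (Module.Flat.lTensor_preserves_injective_linearMap _ Subtype.val_injective)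

end

theorem flatAt_of_flat {M : Type u} [AddCommGroup M] [Module B M] [Module A M] [IsScalarTower A B M]
    [Module.Flat A M] (q : Ideal B) [q.IsPrime] : FlatCA.FlatAt A q M :=
  flat_localizedModule q.primeCompl M

/-- The kernel of a surjection of flat modules is flat. -/
theorem flat_of_exact {P Q R : Type u} [AddCommGroup P] [Module A P] [AddCommGroup Q] [Module A Q]
    [AddCommGroup R] [Module A R] [Module.Flat A Q] [Module.Flat A R] (f : P →ₗ[A] Q) (g : Q →ₗ[A] R)
    (hf : Function.Injective f) (hfg : Function.Exact f g) (hg : Function.Surjective g) : Module.Flat A P := by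
  rw [Module.Flat.iff_rTensor_injective']
  intro I
  have h1 : Function.Injective (f.lTensor I) := LinearMap.lTensor_injective_of_exact_of_flat g hg f hf hfg I
  have h2 : Function.Injective (I.subtype.rTensor Q) :=
    Module.Flat.rTensor_preserves_injective_linearMap _ Subtype.val_injective
  have h3 : ∀ z, I.subtype.rTensor Q (f.lTensor I z) = f.lTensor A (I.subtype.rTensor P z) := fun z => by
    induction z using TensorProduct.induction_on with
    | zero => simp
    | add a b ha hb => simp [map_add, ha, hb]
    | tmul a p => simp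
  intro a b hab
  exact h1 (h2 (by rw [h3, h3, hab]))

variable {P Q R : Type u} [AddCommGroup P] [Module B P] [Module A P] [IsScalarTower A B P]
  [AddCommGroup Q] [Module B Q] [Module A Q] [IsScalarTower A B Q]
  [AddCommGroup R] [Module B R] [Module A R] [IsScalarTower A B R]
  (f : P →ₗ[B] Q) (g : Q →ₗ[B] R)

/-- The kernel is flat at a prime where the cokernel and the middle term are. -/
theorem flatAt_of_exact (hf : Function.Injective f) (hfg : Function.Exact f g) (hg : Function.Surjective g)
    (q : Ideal B) [q.IsPrime] (hR : FlatCA.FlatAt A q R) (hQ : FlatCA.FlatAt A q Q) : FlatCA.FlatAt A q P := by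
  haveI : Module.Flat A (LocalizedModule q.primeCompl Q) := hQ
  haveI : Module.Flat A (LocalizedModule q.primeCompl R) := hR
  exact flat_of_exact ((LocalizedModule.map q.primeCompl f).restrictScalars A)
    ((LocalizedModule.map q.primeCompl g).restrictScalars A) (LocalizedModule.map_injective _ f hf)
    (LocalizedModule.map_exact _ f g hfg) (LocalizedModule.map_surjective _ g hg)

/-- Saturation: `f⁻¹(I Q) ⊆ I P` up to powers of elements of `J`, when the cokernel is flat off `V(J)`. -/
theorem exists_pow_smul_mem (hf : Function.Injective f) (hfg : Function.Exact f g) (hg : Function.Surjective g)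
    (I : Ideal A) {J : Ideal B} (hU : ∀ q : PrimeSpectrum B, ¬ J ≤ q.asIdeal → FlatCA.FlatAt A q.asIdeal R)
    {x : B} (hx : x ∈ J) (p : P) (hp : f p ∈ I.map (algebraMap A B) • (⊤ : Submodule B Q)) :
    ∃ n : ℕ, x ^ n • p ∈ I.map (algebraMap A B) • (⊤ : Submodule B P) := by
  rw [← range_evI] at hp
  obtain ⟨w, hw⟩ := hp
  let gI := AlgebraTensorModule.map g (LinearMap.id : I →ₗ[A] I)
  have h0 : AlgebraTensorModule.map (LinearMap.id : R →ₗ[B] R) I.subtype (gI w) = 0 := by
    refine (AlgebraTensorModule.rid A B R).injective ?_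
    rw [map_zero]
    show evI (B := B) I R (gI w) = 0
    rw [evI_map, hw]
    exact (hfg _).mpr ⟨p, rfl⟩
  obtain ⟨n, hn⟩ := exists_pow_smul_eq_zero hU hx I.subtype Subtype.val_injective (gI w) h0
  have h1 : gI (x ^ n • w) = 0 := by rw [map_smul, hn]
  obtain ⟨v, hv⟩ := (rTensor_exact (f := f.restrictScalars A) (g := g.restrictScalars A) I hfg hg (x ^ n • w)).mp h1
  refine ⟨n, ?_⟩
  rw [← range_evI]
  refine ⟨v, hf ?_⟩
  rw [← evI_map, map_smul, ← hw, ← map_smul]
  exact congrArg _ hv

theorem mem_of_flat (hf : Function.Injective f) (hfg : Function.Exact f g) (hg : Function.Surjective g)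
    [Module.Flat A R] (I : Ideal A) (p : P) (hp : f p ∈ I.map (algebraMap A B) • (⊤ : Submodule B Q)) :
    p ∈ I.map (algebraMap A B) • (⊤ : Submodule B P) := by
  obtain ⟨n, hn⟩ := exists_pow_smul_mem f g hf hfg hg I (J := ⊤) (fun q _ => flatAt_of_flat q.asIdeal)
    (x := 1) Submodule.mem_top p hp
  rwa [one_pow, one_smul] at hn

variable [IsLocalRing A]

/-- The induced map of closed fibres. -/
noncomputable def fibMap : EGA4.FibMod A B P →ₗ[B] EGA4.FibMod A B Q :=
  Submodule.mapQ _ _ f (by
    rw [← Submodule.map_le_iff_le_comap, Submodule.map_smul'']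
    exact Submodule.smul_mono le_rfl le_top)

theorem fibMap_mk (p : P) : fibMap (A := A) f (Submodule.Quotient.mk p) = Submodule.Quotient.mk (f p) :=
  Submodule.mapQ_apply _ _ _ _

theorem fibMap_exact (hfg : Function.Exact f g) (hg : Function.Surjective g) :
    Function.Exact (fibMap (A := A) f) (fibMap (A := A) g) := by
  intro z
  obtain ⟨q, rfl⟩ := Submodule.Quotient.mk_surjective _ z
  rw [fibMap_mk, Submodule.Quotient.mk_eq_zero]
  refine ⟨fun h => ?_, ?_⟩
  · rw [← LinearMap.range_eq_top.mpr hg, ← Submodule.map_top, ← Submodule.map_smul''] at h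
    obtain ⟨q', hq', he⟩ := h
    obtain ⟨p, hp⟩ := (hfg (q - q')).mp (by rw [map_sub, he, sub_self])
    refine ⟨Submodule.Quotient.mk p, ?_⟩
    rw [fibMap_mk, Submodule.Quotient.eq, hp]
    rw [sub_sub_cancel_left]
    exact neg_mem hq'
  · rintro ⟨z, hz⟩
    obtain ⟨p, rfl⟩ := Submodule.Quotient.mk_surjective _ z
    rw [fibMap_mk, Submodule.Quotient.eq] at hz
    have := Submodule.mem_map_of_mem (f := g) hz
    rw [map_sub, hfg.apply_apply_eq_zero, zero_sub, Submodule.map_smul''] at this
    exact Submodule.smul_mono le_rfl le_top (neg_mem_iff.mp this)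

theorem fibMap_surjective (hg : Function.Surjective g) : Function.Surjective (fibMap (A := A) g) := fun z => by
  obtain ⟨r, rfl⟩ := Submodule.Quotient.mk_surjective _ z
  obtain ⟨q, rfl⟩ := hg r
  exact ⟨Submodule.Quotient.mk q, fibMap_mk g q⟩

theorem fibMap_injective_of_flat (hf : Function.Injective f) (hfg : Function.Exact f g) (hg : Function.Surjective g)
    [Module.Flat A R] : Function.Injective (fibMap (A := A) f) := by
  refine (injective_iff_map_eq_zero _).mpr fun z hz => ?_
  obtain ⟨p, rfl⟩ := Submodule.Quotient.mk_surjective _ z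
  rw [fibMap_mk, Submodule.Quotient.mk_eq_zero] at hz
  exact (Submodule.Quotient.mk_eq_zero _).mpr (mem_of_flat f g hf hfg hg (maximalIdeal A) p hz)

variable [IsNoetherianRing A] [IsNoetherianRing B] [IsLocalRing B] [IsLocalHom (algebraMap A B)]

theorem fibMap_injective_of_depth [Module.Finite B P] (hf : Function.Injective f) (hfg : Function.Exact f g)
    (hg : Function.Surjective g) {J : Ideal B}
    (hU : ∀ q : PrimeSpectrum B, ¬ J ≤ q.asIdeal → FlatCA.FlatAt A q.asIdeal R)
    (h1 : 1 ≤ idealDepth J (EGA4.FibMod A B P)) : Function.Injective (fibMap (A := A) f) := by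
  obtain ⟨x, hx, hreg⟩ := one_le_idealDepth_iff.mp h1
  refine (injective_iff_map_eq_zero _).mpr fun z hz => ?_
  obtain ⟨p, rfl⟩ := Submodule.Quotient.mk_surjective _ z
  rw [fibMap_mk, Submodule.Quotient.mk_eq_zero] at hz
  obtain ⟨n, hn⟩ := exists_pow_smul_mem f g hf hfg hg (maximalIdeal A) hU hx p hz
  refine (hreg.pow n).right_eq_zero_of_smul ?_
  rw [← Submodule.Quotient.mk_smul, Submodule.Quotient.mk_eq_zero]
  exact hn

/-- The cokernel is flat if the map of closed fibres is injective. -/
theorem flat_of_fibMap_injective [Module.Flat A Q] [Module.Finite B R] (hfg : Function.Exact f g)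
    (hg : Function.Surjective g) (hinj : Function.Injective (fibMap (A := A) f)) : Module.Flat A R := by
  let 𝔪 := maximalIdeal A
  letI := Ideal.Quotient.field 𝔪
  refine Groth.FlatDescent.flat_of_injective_of_flat_quotient 𝔪 (S := B)
    ((FlatDepthFormula.map_maximalIdeal_le (A := A) (B := B)).trans (maximalIdeal_le_jacobson _)) ?_
  have hinj' : Function.Injective (evI (B := B) 𝔪 R) := by
    refine (injective_iff_map_eq_zero _).mpr fun z hz => ?_
    obtain ⟨w, rfl⟩ := LinearMap.rTensor_surjective 𝔪 (g := g.restrictScalars A) hg z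
    change evI (B := B) 𝔪 R (AlgebraTensorModule.map g (LinearMap.id : 𝔪 →ₗ[A] 𝔪) w) = 0 at hz
    rw [evI_map] at hz
    obtain ⟨p, hp⟩ := (hfg _).mp hz
    have hpI : p ∈ (𝔪).map (algebraMap A B) • (⊤ : Submodule B P) := by
      refine (Submodule.Quotient.mk_eq_zero _).mp (hinj ?_)
      rw [fibMap_mk, map_zero, Submodule.Quotient.mk_eq_zero, hp]
      exact (range_evI 𝔪).le ⟨w, rfl⟩
    rw [← range_evI] at hpI
    obtain ⟨v, rfl⟩ := hpI
    rw [← evI_map] at hp
    have hvw := evI_injective (B := B) 𝔪 hp
    rw [← hvw]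
    exact (rTensor_exact (f := f.restrictScalars A) (g := g.restrictScalars A) 𝔪 hfg hg _).mpr ⟨v, rfl⟩
  have hl : Function.Injective ((Submodule.subtype 𝔪).lTensor R) := fun a b hab =>
    hinj' (congrArg (AlgebraTensorModule.rid A B R) hab)
  intro a b hab
  refine (TensorProduct.comm A 𝔪 R).injective (hl ?_)
  have h : ∀ t, (Submodule.subtype 𝔪).lTensor R (TensorProduct.comm A 𝔪 R t) =
      TensorProduct.comm A A R ((Submodule.subtype 𝔪).rTensor R t) := fun t => by
    induction t using TensorProduct.induction_on with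
    | zero => simp
    | add a b ha hb => simp [map_add, ha, hb]
    | tmul a p => simp
  rw [h, h, hab]

end Groth.Agent.FlatSerre
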