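import Groth.Agent.FlatSerre.FibreBound
import Groth.Agent.FlatSerre.OffClosedSeq
import Groth.Agent.FlatSerre.Localize

/-!
# Localising the hypotheses "flat off a closed set" and "fibre depth along it"
-/

universe u

open TensorProduct

namespace Groth.Agent.FlatSerre

open IsLocalRing LocCoh DepthLib

variable {A B : Type u} [CommRing A] [CommRing B] [Algebra A B]
  (M : Type u) [AddCommGroup M] [Module B M] [Module A M] [IsScalarTower A B M]

theorem isScalarTower_localizedModule (q : Ideal B) [q.IsPrime] :
    IsScalarTower A (Localization.AtPrime q) (LocalizedModule q.primeCompl M) := .of_algebraMap_smul fun r x => by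
  rw [IsScalarTower.algebraMap_apply A B (Localization.AtPrime q), algebraMap_smul, algebraMap_smul]

/-- Localisation of `M / I M`. -/
theorem nonempty_localized_quot (I : Ideal A) (q : Ideal B) [q.IsPrime] :
    Nonempty (LocalizedModule q.primeCompl (M ⧸ (I.map (algebraMap A B) • (⊤ : Submodule B M)))
      ≃ₗ[Localization.AtPrime q] LocalizedModule q.primeCompl M ⧸
        (I.map (algebraMap A (Localization.AtPrime q)) • (⊤ : Submodule (Localization.AtPrime q) (LocalizedModule q.primeCompl M)))) := by
  haveI := isScalarTower_localizedModule (A := A) M q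
  exact ⟨(localizedCongr q.primeCompl (FlatDepthFormula.tensorQuot (A := A) M I).symm).trans
    ((locTensor q.primeCompl (A ⧸ I)).trans (FlatDepthFormula.tensorQuot (LocalizedModule q.primeCompl M) I))⟩

/-- Flatness at a prime can be read off after a localisation. -/
theorem flat_localized_twice (n : Ideal B) [n.IsPrime] (Q : Ideal (Localization.AtPrime n)) [Q.IsPrime]
    (h : FlatCA.FlatAt A (Q.comap (algebraMap B (Localization.AtPrime n))) M) :
    Module.Flat A (LocalizedModule Q.primeCompl (LocalizedModule n.primeCompl M)) := by
  set q := Q.comap (algebraMap B (Localization.AtPrime n))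
  haveI : Module.Flat A (LocalizedModule q.primeCompl M) := h
  let N := LocalizedModule Q.primeCompl (LocalizedModule n.primeCompl M)
  haveI : IsScalarTower B (Localization.AtPrime Q) N := .of_algebraMap_smul fun r x => by
    rw [IsScalarTower.algebraMap_apply B (Localization.AtPrime n) (Localization.AtPrime Q), algebraMap_smul, algebraMap_smul]
  let g : M →ₗ[B] N := ((LocalizedModule.mkLinearMap Q.primeCompl (LocalizedModule n.primeCompl M)).restrictScalars B).comp
    (LocalizedModule.mkLinearMap n.primeCompl M)
  have hb : IsBaseChange (Localization.AtPrime Q) g :=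
    IsBaseChange.comp (LocalizedModule.isBaseChange n.primeCompl M) (LocalizedModule.isBaseChange Q.primeCompl _)
  haveI : IsLocalization.AtPrime (Localization.AtPrime Q) q :=
    IsLocalization.isLocalization_isLocalization_atPrime_isLocalization n.primeCompl (Localization.AtPrime Q) Q
  haveI : IsLocalizedModule q.primeCompl g :=
    (isLocalizedModule_iff_isBaseChange q.primeCompl (Localization.AtPrime Q) g).mpr hb
  exact Module.Flat.of_linearEquiv ((IsLocalizedModule.iso q.primeCompl g).restrictScalars A).symm

variable [IsNoetherianRing B] [Module.Finite B M]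

/-- Depth along `J` of the fibre module at `n` and depths at the points of that fibre. -/
theorem natCast_le_idealDepth_fibLocMod_iff (n : Ideal B) [n.IsPrime] (J : Ideal B) (k : ℕ) :
    (k : ℕ∞) ≤ idealDepth (J.map (algebraMap B (Localization.AtPrime n))) (EGA4.FibLocMod A B n M) ↔
      ∀ q : PrimeSpectrum B, q.asIdeal ≤ n → J ≤ q.asIdeal →
        q.asIdeal.comap (algebraMap A B) = n.comap (algebraMap A B) →
        (k : ℕ∞) ≤ idealDepth (q.asIdeal.map (algebraMap B (EGA4.FibLocRing A B q.asIdeal))) (EGA4.FibLocMod A B q.asIdeal M) := by
  set p := n.comap (algebraMap A B) with hp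
  let N := M ⧸ (p.map (algebraMap A B) • (⊤ : Submodule B M))
  haveI : Module.Finite (Localization.AtPrime n) (LocalizedModule n.primeCompl N) :=
    Module.Finite.of_isLocalizedModule n.primeCompl (LocalizedModule.mkLinearMap n.primeCompl N)
  obtain ⟨en⟩ := nonempty_localized_quot (A := A) M p n
  rw [show idealDepth (J.map (algebraMap B (Localization.AtPrime n))) (EGA4.FibLocMod A B n M) = _ from
    (idealDepth_congr en).symm, natCast_le_idealDepth_iff_forall_localization]
  have fib : ∀ q : PrimeSpectrum B, q.asIdeal.comap (algebraMap A B) = p →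
      idealDepth (q.asIdeal.map (algebraMap B (EGA4.FibLocRing A B q.asIdeal))) (EGA4.FibLocMod A B q.asIdeal M) =
        depth (Localization.AtPrime q.asIdeal) (LocalizedModule q.asIdeal.primeCompl N) := fun q hq => by
    obtain ⟨eq⟩ := nonempty_localized_quot (A := A) M p q.asIdeal
    rw [idealDepth_fibLocMod, depth_congr eq]
    exact depth_congr (Submodule.quotEquivOfEq _ _ (by rw [hq]))
  refine ⟨fun h q hqn hJ hqp => ?_, fun h Q _ hQ => ?_⟩
  · have hc := IsLocalization.comap_map_of_isPrime_disjoint n.primeCompl (Localization.AtPrime n) q.2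
      (Set.disjoint_left.mpr fun x hx hxq => hx (hqn hxq))
    haveI := IsLocalization.isPrime_of_isPrime_disjoint n.primeCompl (Localization.AtPrime n) q.asIdeal q.2
      (Set.disjoint_left.mpr fun x hx hxq => hx (hqn hxq))
    have h1 := h (q.asIdeal.map (algebraMap B (Localization.AtPrime n))) (Ideal.map_mono hJ)
    rw [(invariants_localized_twice N n _ q.asIdeal hc).1] at h1
    rwa [fib q hqp]
  · rw [(invariants_localized_twice N n Q _ rfl).1]
    set q := Q.comap (algebraMap B (Localization.AtPrime n)) with hq
    have hqn : q ≤ n := (Ideal.comap_mono (le_maximalIdeal (Ideal.IsPrime.ne_top ‹_›))).trans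
      Localization.AtPrime.under_maximalIdeal.le
    by_cases hpq : p.map (algebraMap A B) ≤ q
    · have hqp : q.comap (algebraMap A B) = p :=
        le_antisymm (Ideal.comap_mono hqn) (Ideal.map_le_iff_le_comap.mp hpq)
      rw [← fib ⟨q, inferInstance⟩ hqp]
      exact h ⟨q, inferInstance⟩ hqn (Ideal.map_le_iff_le_comap.mp hQ) hqp
    · haveI : Subsingleton (LocalizedModule q.primeCompl N) :=
        Module.notMem_support_iff.mp (fun hs : (⟨q, inferInstance⟩ : PrimeSpectrum B) ∈ _ => hpq fun b hb =>
          Module.mem_support_iff_of_finite.mp hs (Module.mem_annihilator.mpr fun z => by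
            obtain ⟨m, rfl⟩ := Submodule.Quotient.mk_surjective _ z
            rw [← Submodule.Quotient.mk_smul, Submodule.Quotient.mk_eq_zero]
            exact Submodule.smul_mem_smul hb trivial))
      rw [depth_eq_top_of_subsingleton (R := Localization.AtPrime q) (M := LocalizedModule q.primeCompl N)]
      exact le_top

end Groth.Agent.FlatSerre
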