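import Groth.Agent.FlatSerre.Basic
import Groth.Agent.FlatDescent.Scheme
import Groth.Agent.HenselLib.FaithfulDescent
import Groth.Prelude.Def_CInt
import Mathlib

/-!
# Depth of stalks of flat morphisms
-/

universe u

open CategoryTheory AlgebraicGeometry

namespace Groth.Agent.FlatSerre

open IsLocalRing FlatAscent

theorem depth_fibre_stalk_le {X S : Scheme.{u}} [IsLocallyNoetherian X] (f : X ⟶ S) [Flat f] (s : S) (z : f.fiber s) :
    LocCoh.depth ↑((f.fiber s).presheaf.stalk z) ↑((f.fiber s).presheaf.stalk z) ≤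
      LocCoh.depth ↑(X.presheaf.stalk (f.fiberι s z)) ↑(X.presheaf.stalk (f.fiberι s z)) := by
  set y := f.fiberι s z
  algebraize [(f.stalkMap y).hom]
  haveI : Module.Flat (S.presheaf.stalk (f y)) (X.presheaf.stalk y) := Flat.stalkMap f y
  haveI : IsLocalHom (algebraMap (S.presheaf.stalk (f y)) (X.presheaf.stalk y)) :=
    inferInstanceAs (IsLocalHom (f.stalkMap y).hom)
  haveI : Module.FaithfullyFlat (S.presheaf.stalk (f y)) (X.presheaf.stalk y) :=
    Module.FaithfullyFlat.of_flat_of_isLocalHom
  haveI : IsNoetherianRing (S.presheaf.stalk (f y)) :=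
    HenselLib.isNoetherianRing_of_faithfullyFlat _ (X.presheaf.stalk y)
  haveI := isLocalRing_fibre (S.presheaf.stalk (f y)) (X.presheaf.stalk y)
  have e : Fib (S.presheaf.stalk (f y)) (X.presheaf.stalk y) ≃+* (f.fiber s).presheaf.stalk z :=
    (Ideal.quotEquivOfEq (Groth.FlatDescent.ker_stalkMap_fiberι f s z).symm).trans
      (RingHom.quotientKerEquivOfSurjective ((f.fiberι s).stalkMap_surjective z))
  rw [depth_self_eq_add (S.presheaf.stalk (f y)) (X.presheaf.stalk y), depth_eq_of_ringEquiv e]
  exact le_add_self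

/-- For a flat morphism the depth of a local ring is at least that of the local ring of the fibre. -/
theorem depth_fiberStalk_le {X S : Scheme.{u}} [IsLocallyNoetherian X] (f : X ⟶ S) [Flat f] (x : X) :
    LocCoh.depth ↑(CInt.fiberStalk f x) ↑(CInt.fiberStalk f x) ≤
      LocCoh.depth ↑(X.presheaf.stalk x) ↑(X.presheaf.stalk x) := by
  have h := depth_fibre_stalk_le f (f x) (f.asFiber x)
  rwa [congrArg (fun p => LocCoh.depth ↑(X.presheaf.stalk p) ↑(X.presheaf.stalk p)) (f.fiberι_asFiber x)] at h

end Groth.Agent.FlatSerre
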